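import Groth.Agent.HenselBranchLib.EtCovBase
import Groth.Agent.HenselBranchLib.IndEtLocal
import Groth.Agent.S9470
import Mathlib.RingTheory.Etale.Basic

/-!
# Étale stages of a henselization
-/

set_option autoImplicit false
set_option linter.style.haveILetI false

noncomputable section

universe u

open scoped TensorProduct
open Algebra.TensorProduct

namespace Groth.Agent.MultNhd

/-- The map from a tensor product over a stage to the tensor product over the limit. -/
abbrev toHens (S : Type u) [CommRing S] (Rh : Type u) [CommRing Rh] [Algebra S Rh] (S' : Type u) [CommRing S']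
    [Algebra S S'] [Algebra S' Rh] [IsScalarTower S S' Rh] (X : Type u) [CommRing X] [Algebra S X] :
    S' ⊗[S] X →ₐ[S] Rh ⊗[S] X :=
  Algebra.TensorProduct.map (IsScalarTower.toAlgHom S S' Rh) (AlgHom.id S X)

variable {S Rh : Type u} [CommRing S] [CommRing Rh] [IsLocalRing Rh] [Algebra S Rh] [Module.Flat S Rh]

/-- An element vanishing after tensoring with the henselization is killed near the point. -/
theorem exists_smul_eq_zero {X : Type u} [AddCommGroup X] [Module S X] {x : X}
    (hx : (1 : Rh) ⊗ₜ[S] x = 0) :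
    ∃ g, algebraMap S Rh g ∉ IsLocalRing.maximalIdeal Rh ∧ g • x = 0 := by
  let a : Ideal S := LinearMap.ker (LinearMap.toSpanSingleton S X x)
  let i : S ⧸ a →ₗ[S] X := Submodule.liftQ a (LinearMap.toSpanSingleton S X x) le_rfl
  have hi : Function.Injective i := by
    rw [← LinearMap.ker_eq_bot, Submodule.ker_liftQ_eq_bot _ _ _ le_rfl]
  have h1 : (1 : Rh) ⊗ₜ[S] (Submodule.Quotient.mk 1 : S ⧸ a) = 0 := by
    apply Module.Flat.lTensor_preserves_injective_linearMap (M := Rh) i hi
    rw [map_zero, LinearMap.lTensor_tmul]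
    have h2 : i (Submodule.Quotient.mk 1) = x := by
      show LinearMap.toSpanSingleton S X x 1 = x
      simp
    rw [h2, hx]
  by_contra hne
  push Not at hne
  have hle : ∀ g ∈ a, IsLocalRing.residue Rh (algebraMap S Rh g) = 0 := fun g hg => by
    rw [IsLocalRing.residue_eq_zero_iff]
    by_contra h
    exact hne g h hg
  let χ : Rh ⊗[S] (S ⧸ a) →ₐ[S] IsLocalRing.ResidueField Rh :=
    Algebra.TensorProduct.lift (IsScalarTower.toAlgHom S Rh (IsLocalRing.ResidueField Rh))
      (Ideal.Quotient.liftₐ a (Algebra.ofId S (IsLocalRing.ResidueField Rh)) fun g hg => hle g hg)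
      fun _ _ => Commute.all _ _
  have h3 := congrArg χ h1
  rw [map_zero, show (Submodule.Quotient.mk 1 : S ⧸ a) = (1 : S ⧸ a) from rfl,
    show (1 : Rh) ⊗ₜ[S] (1 : S ⧸ a) = 1 from rfl, map_one] at h3
  exact one_ne_zero h3

/-- The kernel of the map to the henselization of a finite type algebra is killed near the point. -/
theorem exists_smul_ker [IsNoetherianRing S] (X : Type u) [CommRing X] [Algebra S X] [Algebra.FiniteType S X] :
    ∃ g, algebraMap S Rh g ∉ IsLocalRing.maximalIdeal Rh ∧
      ∀ x : X, (1 : Rh) ⊗ₜ[S] x = 0 → g • x = 0 := by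
  classical
  haveI : IsNoetherianRing X := Algebra.FiniteType.isNoetherianRing S X
  let K : Ideal X := RingHom.ker (Algebra.TensorProduct.includeRight : X →ₐ[S] Rh ⊗[S] X).toRingHom
  obtain ⟨t, ht⟩ := (IsNoetherian.noetherian K : K.FG)
  have hx : ∀ x ∈ t, ∃ g, algebraMap S Rh g ∉ IsLocalRing.maximalIdeal Rh ∧ g • x = 0 := fun x hx =>
    exists_smul_eq_zero (show x ∈ K from ht ▸ Submodule.subset_span hx)
  choose g hg hgx using hx
  refine ⟨∏ x : t, g x.1 x.2, ?_, fun x hx => ?_⟩
  · rw [map_prod, Ideal.IsPrime.prod_mem_iff]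
    rintro ⟨y, -, hy⟩
    exact hg y.1 y.2 hy
  · have hxK : x ∈ Submodule.span X (t : Set X) := ht.symm ▸ (hx : x ∈ K)
    clear hx
    induction hxK using Submodule.span_induction with
    | mem y hy =>
      rw [← Finset.prod_erase_mul _ _ (Finset.mem_univ (⟨y, hy⟩ : t)), mul_smul, hgx y hy, smul_zero]
    | zero => rw [smul_zero]
    | add a b _ _ ha hb => rw [smul_add, ha, hb, add_zero]
    | smul c a _ ha => rw [smul_comm, ha, smul_zero]

/-- After a localisation the map to the henselization is injective. -/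
theorem injective_toHens_away {S' : Type u} [CommRing S'] [Algebra S S'] [Algebra S' Rh] [IsScalarTower S S' Rh]
    {g : S} [IsLocalization.Away g S'] {X : Type u} [CommRing X] [Algebra S X]
    (hg : ∀ x : X, (1 : Rh) ⊗ₜ[S] x = 0 → g • x = 0) : Function.Injective (toHens S Rh S' X) := by
  haveI := IsLocalization.flat S' (Submonoid.powers g)
  rw [injective_iff_map_eq_zero]
  intro z hz
  have hu : IsUnit (algebraMap S S' g) := IsLocalization.Away.algebraMap_isUnit g
  obtain ⟨n, x, hx⟩ : ∃ (n : ℕ) (x : X), g ^ n • z = (1 : S') ⊗ₜ[S] x := by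
    clear hz
    induction z using TensorProduct.induction_on with
    | zero => exact ⟨0, 0, by simp⟩
    | add a b ha hb =>
      obtain ⟨n, x, hx⟩ := ha
      obtain ⟨m, y, hy⟩ := hb
      refine ⟨n + m, g ^ m • x + g ^ n • y, ?_⟩
      rw [TensorProduct.tmul_add, TensorProduct.tmul_smul, TensorProduct.tmul_smul, ← hx, ← hy, smul_add,
        smul_smul, smul_smul, ← pow_add, ← pow_add, add_comm m n]
    | tmul s x =>
      obtain ⟨⟨a, ⟨_, k, rfl⟩⟩, ha⟩ := IsLocalization.surj (Submonoid.powers g) s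
      refine ⟨k, a • x, ?_⟩
      rw [TensorProduct.tmul_smul, TensorProduct.smul_tmul', TensorProduct.smul_tmul', Algebra.smul_def, mul_comm]
      congr 1
      rw [Algebra.smul_def, mul_one]
      exact ha
  have h1 : (1 : Rh) ⊗ₜ[S] x = 0 := by
    have h := congrArg (toHens S Rh S' X) hx
    rw [map_smul, hz, smul_zero, Algebra.TensorProduct.map_tmul, map_one, AlgHom.id_apply] at h
    exact h.symm
  have h2 : g ^ (n + 1) • z = 0 := by
    rw [pow_succ', mul_smul, hx, ← TensorProduct.tmul_smul, hg x h1, TensorProduct.tmul_zero]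
  rw [Algebra.smul_def, IsScalarTower.algebraMap_apply S S' (S' ⊗[S] X), map_pow] at h2
  exact ((hu.pow (n + 1)).map (algebraMap S' (S' ⊗[S] X))).mul_right_eq_zero.1 (by simpa only [map_pow] using h2)

omit [Module.Flat S Rh] in
/-- Injectivity along a composite stage. -/
theorem injective_toHens_stage {S₁ S' : Type u} [CommRing S₁] [CommRing S'] [Algebra S S₁] [Algebra S S']
    [Algebra S₁ S'] [IsScalarTower S S₁ S'] [Algebra S₁ Rh] [Algebra S' Rh] [IsScalarTower S S₁ Rh]
    [IsScalarTower S S' Rh] [IsScalarTower S₁ S' Rh] [Module.Flat S₁ Rh] {g : S₁} [IsLocalization.Away g S']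
    {X : Type u} [CommRing X] [Algebra S X]
    (hg : ∀ z : S₁ ⊗[S] X, (1 : Rh) ⊗ₜ[S₁] z = 0 → g • z = 0) : Function.Injective (toHens S Rh S' X) := by
  have h := injective_toHens_away (Rh := Rh) (S' := S') (g := g) hg
  let a := Algebra.TensorProduct.cancelBaseChange S S₁ S' S' X
  let b := Algebra.TensorProduct.cancelBaseChange S S₁ Rh Rh X
  have hc : ∀ z, b (toHens S₁ Rh S' (S₁ ⊗[S] X) z) = toHens S Rh S' X (a z) := fun z => by
    induction z using TensorProduct.induction_on with
    | zero => simp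
    | add p q hp hq => simp only [map_add, hp, hq]
    | tmul s w =>
      induction w using TensorProduct.induction_on with
      | zero => simp
      | add p q hp hq => simp only [TensorProduct.tmul_add, map_add, hp, hq]
      | tmul t x =>
        simp [a, b, toHens, Algebra.smul_def, map_mul, ← IsScalarTower.algebraMap_apply S₁ S' Rh]
  intro x y hxy
  obtain ⟨x, rfl⟩ := a.surjective x
  obtain ⟨y, rfl⟩ := a.surjective y
  exact congrArg a (h (b.injective (by rw [hc, hc, hxy])))

end Groth.Agent.MultNhd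

namespace Groth.Agent.MultNhd

variable {R Rh : Type u} [CommRing R] [CommRing Rh] [IsLocalRing Rh] (p : Ideal R) [p.IsPrime]
  [Algebra (Localization.AtPrime p) Rh] [IsLocalHom (algebraMap (Localization.AtPrime p) Rh)]
  [Hensel.IsHenselization (Localization.AtPrime p) Rh] [Algebra R Rh] [IsScalarTower R (Localization.AtPrime p) Rh]

include p in
theorem flat_stage {S : Type u} [CommRing S] [Algebra R S] [Algebra.Etale R S] [Algebra S Rh]
    [IsScalarTower R S Rh] : Module.Flat S Rh := by
  haveI := HenselBranchLib.flat_henselization_atPrime p Rh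
  exact RingHom.flat_algebraMap_iff.1 (HenselBranchLib.flat_of_etale_hom (IsScalarTower.toAlgHom R S Rh))

include p in
/-- A larger stage containing given elements. -/
theorem exists_stage_mem {S : Type u} [CommRing S] [Algebra R S] [Algebra.Etale R S] [Algebra S Rh]
    [IsScalarTower R S Rh] (s : Finset Rh) :
    ∃ (S' : Type u) (_ : CommRing S') (_ : Algebra R S') (_ : Algebra S S') (_ : Algebra S' Rh)
      (_ : IsScalarTower R S S') (_ : IsScalarTower S S' Rh) (_ : IsScalarTower R S' Rh),
      Algebra.Etale R S' ∧ Algebra.Etale S S' ∧ ∀ x ∈ s, x ∈ (algebraMap S' Rh).range := by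
  classical
  obtain ⟨-, h2, -⟩ := Groth.Agent.S9470.result R p Rh
  induction s using Finset.induction_on with
  | empty =>
    exact ⟨S, inferInstance, inferInstance, inferInstance, inferInstance, inferInstance, inferInstance, inferInstance,
      inferInstance, inferInstance, by simp⟩
  | @insert a s _ ih =>
    obtain ⟨S₁, _, _, _, _, _, _, _, h₁, h₁', hs⟩ := ih
    obtain ⟨U, _, _, _, q, _, hq, -, f, u, -, hu⟩ := h2 a
    haveI := h₁; haveI := h₁'
    let ξ : S₁ ⊗[R] U →ₐ[S₁] Rh := Algebra.TensorProduct.lift (Algebra.ofId S₁ Rh) f fun _ _ => Commute.all _ _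
    letI : Algebra (S₁ ⊗[R] U) Rh := ξ.toRingHom.toAlgebra
    haveI : IsScalarTower S₁ (S₁ ⊗[R] U) Rh := IsScalarTower.of_algebraMap_eq fun x => (ξ.commutes x).symm
    haveI : IsScalarTower R (S₁ ⊗[R] U) Rh := IsScalarTower.of_algebraMap_eq fun x => by
      rw [IsScalarTower.algebraMap_apply R S₁ (S₁ ⊗[R] U), ← IsScalarTower.algebraMap_apply S₁ (S₁ ⊗[R] U) Rh,
        ← IsScalarTower.algebraMap_apply R S₁ Rh]
    haveI : IsScalarTower S (S₁ ⊗[R] U) Rh := IsScalarTower.of_algebraMap_eq fun x => by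
      rw [IsScalarTower.algebraMap_apply S S₁ (S₁ ⊗[R] U), ← IsScalarTower.algebraMap_apply S₁ (S₁ ⊗[R] U) Rh,
        ← IsScalarTower.algebraMap_apply S S₁ Rh]
    haveI : Algebra.Etale R (S₁ ⊗[R] U) := Algebra.Etale.comp R S₁ (S₁ ⊗[R] U)
    haveI : Algebra.Etale S (S₁ ⊗[R] U) := Algebra.Etale.comp S S₁ (S₁ ⊗[R] U)
    refine ⟨S₁ ⊗[R] U, inferInstance, inferInstance, inferInstance, inferInstance, inferInstance, inferInstance,
      inferInstance, inferInstance, inferInstance, fun x hx => ?_⟩
    rcases Finset.mem_insert.1 hx with rfl | hx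
    · refine ⟨1 ⊗ₜ u, ?_⟩
      show ξ (1 ⊗ₜ u) = x
      simp [ξ, hu]
    · obtain ⟨y, rfl⟩ := hs x hx
      exact ⟨y ⊗ₜ 1, by show ξ (y ⊗ₜ 1) = _; simp [ξ]⟩

include p in
/-- A larger stage containing given elements over which given algebras map injectively to the henselization. -/
theorem exists_stage {S : Type u} [CommRing S] [IsNoetherianRing R] [Algebra R S] [Algebra.Etale R S] [Algebra S Rh]
    [IsScalarTower R S Rh] (s : Finset Rh) (X Y : Type u) [CommRing X] [Algebra S X] [Algebra.FiniteType S X]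
    [CommRing Y] [Algebra S Y] [Algebra.FiniteType S Y] :
    ∃ (S' : Type u) (_ : CommRing S') (_ : Algebra R S') (_ : Algebra S S') (_ : Algebra S' Rh)
      (_ : IsScalarTower R S S') (_ : IsScalarTower S S' Rh) (_ : IsScalarTower R S' Rh),
      Algebra.Etale R S' ∧ Algebra.Etale S S' ∧ (∀ x ∈ s, x ∈ (algebraMap S' Rh).range) ∧
        Function.Injective (algebraMap S' Rh) ∧ Function.Injective (toHens S Rh S' X) ∧
        Function.Injective (toHens S Rh S' Y) := by
  classical
  obtain ⟨S₁, _, _, _, _, _, _, _, h₁, h₁', hs⟩ := exists_stage_mem p (S := S) s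
  haveI := h₁; haveI := h₁'
  haveI : IsNoetherianRing S₁ := Algebra.FiniteType.isNoetherianRing R S₁
  haveI := flat_stage p (Rh := Rh) (S := S₁)
  obtain ⟨g₀, hg₀, hk₀⟩ := exists_smul_ker (Rh := Rh) (S := S₁) S₁
  obtain ⟨g₁, hg₁, hk₁⟩ := exists_smul_ker (Rh := Rh) (S := S₁) (S₁ ⊗[S] X)
  obtain ⟨g₂, hg₂, hk₂⟩ := exists_smul_ker (Rh := Rh) (S := S₁) (S₁ ⊗[S] Y)
  let g := g₀ * g₁ * g₂
  have hgu : IsUnit (algebraMap S₁ Rh g) := by
    rw [map_mul, map_mul]
    exact ((IsLocalRing.notMem_maximalIdeal.1 hg₀).mul (IsLocalRing.notMem_maximalIdeal.1 hg₁)).mul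
      (IsLocalRing.notMem_maximalIdeal.1 hg₂)
  let S₂ := Localization.Away g
  letI : Algebra S₂ Rh := (IsLocalization.Away.lift g hgu).toAlgebra
  haveI : IsScalarTower S₁ S₂ Rh := IsScalarTower.of_algebraMap_eq fun x =>
    (IsLocalization.Away.lift_eq g hgu x).symm
  haveI : IsScalarTower R S₂ Rh := IsScalarTower.of_algebraMap_eq fun x => by
    rw [IsScalarTower.algebraMap_apply R S₁ S₂, ← IsScalarTower.algebraMap_apply S₁ S₂ Rh,
      ← IsScalarTower.algebraMap_apply R S₁ Rh]
  haveI : IsScalarTower S S₂ Rh := IsScalarTower.of_algebraMap_eq fun x => by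
    rw [IsScalarTower.algebraMap_apply S S₁ S₂, ← IsScalarTower.algebraMap_apply S₁ S₂ Rh,
      ← IsScalarTower.algebraMap_apply S S₁ Rh]
  haveI : IsScalarTower R S S₂ := IsScalarTower.of_algebraMap_eq fun x => by
    rw [IsScalarTower.algebraMap_apply R S₁ S₂, IsScalarTower.algebraMap_apply R S S₁,
      ← IsScalarTower.algebraMap_apply S S₁ S₂]
  haveI : Algebra.Etale R S₂ := Algebra.Etale.comp R S₁ S₂
  haveI : Algebra.Etale S S₂ := Algebra.Etale.comp S S₁ S₂
  refine ⟨S₂, inferInstance, inferInstance, inferInstance, inferInstance, inferInstance, inferInstance, inferInstance,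
    inferInstance, inferInstance, fun x hx => ?_, ?_, ?_, ?_⟩
  · obtain ⟨y, rfl⟩ := hs x hx
    exact ⟨algebraMap S₁ S₂ y, (IsScalarTower.algebraMap_apply S₁ S₂ Rh y).symm⟩
  · have h := injective_toHens_away (Rh := Rh) (S' := S₂) (g := g) (X := S₁) fun x hx => by
      rw [show g = g₁ * g₂ * g₀ by ring, mul_smul, hk₀ x hx, smul_zero]
    intro a b hab
    have h1 : toHens S₁ Rh S₂ S₁ (a ⊗ₜ 1) = toHens S₁ Rh S₂ S₁ (b ⊗ₜ 1) := by
      simp [toHens, hab]
    simpa using congrArg (Algebra.TensorProduct.rid S₁ S₂ S₂) (h h1)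
  · exact injective_toHens_stage (g := g) fun z hz => by
      rw [show g = g₀ * g₂ * g₁ by ring, mul_smul, hk₁ z hz, smul_zero]
  · exact injective_toHens_stage (g := g) fun z hz => by
      rw [mul_smul, hk₂ z hz, smul_zero]

end Groth.Agent.MultNhd
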