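import Groth.Agent.MultNhdLib.Torsion
import Groth.Agent.MultHensLib.Lift

/-!
# Lifting a group of multiplicative type over the residue field to an étale neighbourhood
-/

set_option autoImplicit false
set_option backward.isDefEq.respectTransparency false
set_option linter.style.haveILetI false
set_option synthInstance.maxHeartbeats 400000
set_option maxHeartbeats 1600000

noncomputable section

universe u

open scoped TensorProduct
open Groth.Agent.TorusField Groth.Agent.DiagHopf

namespace Groth.Agent.MultNhd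

/-- An isotrivial group is of finite type when its reduction is. -/
theorem finiteType_of_isotrivial_reduction {A : Type u} [CommRing A] {I : Ideal A} [Nontrivial (A ⧸ I)]
    {F : Type u} [CommRing F] [HopfAlgebra A F] (hF : SGA3b.IsIsotrivial A F)
    [Algebra.FiniteType (A ⧸ I) ((A ⧸ I) ⊗[A] F)] : Algebra.FiniteType A F ∧ SGA3b.IsMultType A F := by
  classical
  obtain ⟨T, _, _, -, hfin, hff, N, _, ⟨eN⟩⟩ := id hF
  haveI := hff; haveI := hfin
  obtain ⟨EF⟩ := exists_split_of_bialgEquiv eN
  refine ⟨?_, isMultType_of_split EF⟩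
  letI : Algebra (A ⧸ I) (HopfDesc.B I T) := inferInstance
  obtain ⟨E₁, -⟩ := exists_split_push EF (HopfDesc.red I T)
  obtain ⟨E₂⟩ := exists_split_transfer' (R' := A ⧸ I) E₁
  haveI : Nontrivial (HopfDesc.B I T) :=
    Module.FaithfullyFlat.rTensor_nontrivial A T (A ⧸ I)
  haveI hN : AddMonoid.FG (Additive N) := fg_of_split' E₂
  haveI : AddGroup.FG (Additive N) := AddGroup.fg_iff_addMonoid_fg.2 hN
  haveI : Group.FG N := GroupFG.iff_add_fg.2 inferInstance
  haveI : Monoid.FG N := Group.fg_iff_monoid_fg.1 inferInstance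
  haveI : Algebra.FiniteType T (T ⊗[A] F) :=
    Algebra.FiniteType.equiv (inferInstance : Algebra.FiniteType T (MonoidAlgebra T N)) eN.symm.toAlgEquiv
  exact Algebra.FiniteType.of_finiteType_tensorProduct_of_faithfullyFlat T

/-- Base change of an isomorphism of bialgebras. -/
def bcEquiv {R : Type u} [CommRing R] (T : Type u) [CommRing T] [Algebra R T] {X Y : Type u} [CommRing X]
    [CommRing Y] [Bialgebra R X] [Bialgebra R Y] (e : X ≃ₐc[R] Y) : T ⊗[R] X ≃ₐc[T] T ⊗[R] Y :=
  BialgEquiv.ofBijective (Bialgebra.TensorProduct.map (BialgHom.id T T) e.toBialgHom)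
    (Algebra.TensorProduct.congr (AlgEquiv.refl (R := T) (A₁ := T)) e.toAlgEquiv).bijective

/-- A group of multiplicative type and finite type over the residue field has a flat model over an étale
neighbourhood. -/
theorem exists_flat_lift {A K : Type u} [CommRing A] [Field K] [Algebra A K]
    (hK : ∀ x : K, ∃ a s : A, algebraMap A K s ≠ 0 ∧ x * algebraMap A K s = algebraMap A K a)
    (F₀ : Type u) [CommRing F₀] [HopfAlgebra K F₀] [Algebra.FiniteType K F₀] (h : SGA3b.IsMultType K F₀) :
    ∃ (A' : Type u) (_ : CommRing A') (_ : Algebra A A') (_ : Algebra A' K) (_ : IsScalarTower A A' K)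
      (F : Type u) (_ : CommRing F) (_ : HopfAlgebra A' F),
      Algebra.Etale A A' ∧ Algebra.FinitePresentation A' F ∧ Module.Flat A' F ∧
        Nonempty (K ⊗[A'] F ≃ₐc[K] F₀) := by
  classical
  haveI : Algebra.FinitePresentation K F₀ := Algebra.FinitePresentation.of_finiteType.1 inferInstance
  obtain ⟨R₁, _, _, B, _, _, hR₁, -, -, hBfp, ⟨e₀⟩⟩ := HomLift.exists_hopf_model K F₀ inferInstance
  haveI := hBfp
  obtain ⟨gens, hgens⟩ := (hR₁.out : (⊤ : Subalgebra ℤ R₁).FG)
  choose num den hden hnum using fun t : R₁ => hK (algebraMap R₁ K t)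
  let s : A := ∏ t ∈ gens, den t
  have hs : IsUnit (algebraMap A K s) := isUnit_iff_ne_zero.2 (by
    rw [map_prod]; exact Finset.prod_ne_zero_iff.2 fun t _ => hden t)
  let As := Localization.Away s
  letI : Algebra As K := (IsLocalization.Away.lift s hs).toAlgebra
  haveI : IsScalarTower A As K := IsScalarTower.of_algebraMap_eq fun x => (IsLocalization.Away.lift_eq s hs x).symm
  have hpre : ∀ t ∈ gens, ∃ x : As, algebraMap As K x = algebraMap R₁ K t := fun t ht => by
    refine ⟨algebraMap A As (num t * ∏ t' ∈ gens.erase t, den t') * IsLocalization.Away.invSelf s,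
      hs.mul_left_injective ?_⟩
    show _ * algebraMap A K s = _ * algebraMap A K s
    rw [IsScalarTower.algebraMap_apply A As K s, ← map_mul, mul_assoc, mul_comm (IsLocalization.Away.invSelf s),
      IsLocalization.Away.mul_invSelf, mul_one, ← IsScalarTower.algebraMap_apply, ← IsScalarTower.algebraMap_apply,
      map_mul, ← hnum t, mul_assoc, ← map_mul]
    exact congrArg (fun z => algebraMap R₁ K t * algebraMap A K z) (Finset.mul_prod_erase gens den ht)
  choose x hx using hpre
  let R₂ : Subalgebra ℤ As := Algebra.adjoin ℤ (Set.range fun t : gens => x t.1 t.2)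
  haveI : Algebra.FiniteType ℤ R₂ := (Subalgebra.fg_iff_finiteType _).1
    (Subalgebra.fg_def.2 ⟨_, Set.finite_range _, rfl⟩)
  haveI : IsNoetherianRing R₂ := Algebra.FiniteType.isNoetherianRing ℤ R₂
  let π : R₂ →+* K := (algebraMap As K).comp (algebraMap R₂ As)
  let p₂ : Ideal R₂ := RingHom.ker π
  haveI : p₂.IsPrime := RingHom.ker_isPrime _
  let v : p₂.ResidueField →+* K := Ideal.ResidueField.lift p₂ π (fun y hy => hy)
    (fun y hy => show IsUnit _ from isUnit_iff_ne_zero.2 fun h0 => hy h0)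
  have hv : ∀ y, v (algebraMap R₂ p₂.ResidueField y) = π y := fun y => Ideal.ResidueField.lift_algebraMap p₂ _ _ _ y
  have hR₁v : ∀ t : R₁, algebraMap R₁ K t ∈ v.range := by
    intro t
    have ht : t ∈ Algebra.adjoin ℤ (gens : Set R₁) := hgens ▸ Algebra.mem_top
    induction ht using Algebra.adjoin_induction with
    | mem y hy =>
      exact ⟨algebraMap R₂ p₂.ResidueField ⟨x y hy, Algebra.subset_adjoin ⟨⟨y, hy⟩, rfl⟩⟩,
        (hv _).trans (hx y hy)⟩
    | algebraMap r => exact ⟨(r : p₂.ResidueField), by rw [map_intCast]; exact (by simp : ((r : ℤ) : K) = algebraMap R₁ K (algebraMap ℤ R₁ r))⟩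
    | add a b _ _ ha hb => rw [map_add]; exact add_mem ha hb
    | mul a b _ _ ha hb => rw [map_mul]; exact mul_mem ha hb
  choose w hw using fun t => hR₁v t
  let w' : R₁ →+* p₂.ResidueField :=
    { toFun := w
      map_one' := v.injective (by rw [hw, map_one, map_one])
      map_mul' := fun a b => v.injective (by rw [hw, map_mul, map_mul, hw, hw])
      map_zero' := v.injective (by rw [hw, map_zero, map_zero])
      map_add' := fun a b => v.injective (by rw [hw, map_add, map_add, hw, hw]) }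
  letI : Algebra R₁ p₂.ResidueField := w'.toAlgebra
  letI : Algebra p₂.ResidueField K := v.toAlgebra
  haveI : IsScalarTower R₁ p₂.ResidueField K := IsScalarTower.of_algebraMap_eq fun t => (hw t).symm
  let k₂ := p₂.ResidueField
  let F₂ := k₂ ⊗[R₁] B
  have hF₂ : SGA3b.IsMultType k₂ F₂ := isMultType_of_field_ext (K := K)
    (S5299.isMultType_bialgEquiv ((HomLift.cancelBC R₁ k₂ K B).trans e₀).symm h)
  haveI : Algebra.FiniteType k₂ F₂ := Algebra.FiniteType.baseChange (A := B) k₂
  -- the henselization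
  obtain ⟨Rh, _, _, _, _, hH⟩ := Groth.Agent.S0506.result (Localization.AtPrime p₂)
  haveI := hH
  letI : Algebra R₂ Rh :=
    ((algebraMap (Localization.AtPrime p₂) Rh).comp (algebraMap R₂ (Localization.AtPrime p₂))).toAlgebra
  haveI : IsScalarTower R₂ (Localization.AtPrime p₂) Rh := IsScalarTower.of_algebraMap_eq fun _ => rfl
  haveI : HenselianLocalRing Rh := hH.henselian
  haveI : IsNoetherianRing Rh := (Groth.Agent.S0511.result (Localization.AtPrime p₂) Rh).1 inferInstance
  let m := IsLocalRing.maximalIdeal Rh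
  letI : Field (Rh ⧸ m) := Ideal.Quotient.field m
  let γ : k₂ →+* Rh ⧸ m := IsLocalRing.ResidueField.map (algebraMap (Localization.AtPrime p₂) Rh)
  have hγ : Function.Bijective γ := Groth.Agent.S0508.result (Localization.AtPrime p₂) Rh
  let eγ := RingEquiv.ofBijective γ hγ
  letI : Algebra k₂ (Rh ⧸ m) := γ.toAlgebra
  letI : Algebra (Rh ⧸ m) K := (v.comp eγ.symm.toRingHom).toAlgebra
  haveI : IsScalarTower k₂ (Rh ⧸ m) K := IsScalarTower.of_algebraMap_eq fun y => by
    show v y = v (eγ.symm (γ y))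
    rw [show γ y = eγ y from rfl, RingEquiv.symm_apply_apply]
  have hiso : SGA3b.IsIsotrivial (Rh ⧸ m) ((Rh ⧸ m) ⊗[k₂] F₂) :=
    MultHens.isIsotrivial_of_field (Algebra.FiniteType.baseChange (A := F₂) (Rh ⧸ m))
      (QIso.isMultType_baseChange hF₂ _)
  haveI : HenselianRing Rh m := inferInstance
  obtain ⟨F, _, _, hF, ⟨eF⟩⟩ := HopfDesc.isotrivial_lifts (R := Rh) (I := m) ((Rh ⧸ m) ⊗[k₂] F₂) hiso
  haveI : Algebra.FiniteType (Rh ⧸ m) ((Rh ⧸ m) ⊗[k₂] F₂) := Algebra.FiniteType.baseChange (A := F₂) (Rh ⧸ m)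
  haveI : Algebra.FiniteType (Rh ⧸ m) ((Rh ⧸ m) ⊗[Rh] F) :=
    Algebra.FiniteType.equiv (inferInstance : Algebra.FiniteType (Rh ⧸ m) ((Rh ⧸ m) ⊗[k₂] F₂)) eF.symm.toAlgEquiv
  obtain ⟨hFft, hFm⟩ := finiteType_of_isotrivial_reduction (I := m) hF
  haveI := hFft
  haveI : Algebra.FinitePresentation Rh F := Algebra.FinitePresentation.of_finiteType.1 inferInstance
  haveI : Module.Flat Rh F := HomLift.flat_of_hasSplits (HomLift.hasSplits_of_isMultType hFm)
  obtain ⟨R₄, _, _, B₄, _, _, hR₄, -, hB₄fl, hB₄fp, ⟨e₄⟩⟩ := HomLift.exists_hopf_model Rh F inferInstance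
  haveI := hB₄fl; haveI := hB₄fp
  obtain ⟨g₄, hg₄⟩ := (hR₄.out : (⊤ : Subalgebra ℤ R₄).FG)
  obtain ⟨S₁, _, _, _, _, hS₁et, hS₁mem, hS₁inj, -, -⟩ :=
    exists_stage_base p₂ (g₄.image (algebraMap R₄ Rh)) R₂ R₂
  haveI := hS₁et
  have hR₄S : ∀ t : R₄, algebraMap R₄ Rh t ∈ (algebraMap S₁ Rh).range := by
    intro t
    have ht : t ∈ Algebra.adjoin ℤ (g₄ : Set R₄) := hg₄ ▸ Algebra.mem_top
    induction ht using Algebra.adjoin_induction with
    | mem y hy => exact hS₁mem _ (Finset.mem_image.2 ⟨y, hy, rfl⟩)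
    | algebraMap r => exact ⟨(r : S₁), by rw [map_intCast]; exact (by simp : ((r : ℤ) : Rh) = algebraMap R₄ Rh (algebraMap ℤ R₄ r))⟩
    | add a b _ _ ha hb => rw [map_add]; exact add_mem ha hb
    | mul a b _ _ ha hb => rw [map_mul]; exact mul_mem ha hb
  choose w₄ hw₄ using fun t => hR₄S t
  let w₄' : R₄ →+* S₁ :=
    { toFun := w₄
      map_one' := hS₁inj (by rw [hw₄, map_one, map_one])
      map_mul' := fun a b => hS₁inj (by rw [hw₄, map_mul, map_mul, hw₄, hw₄])
      map_zero' := hS₁inj (by rw [hw₄, map_zero, map_zero])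
      map_add' := fun a b => hS₁inj (by rw [hw₄, map_add, map_add, hw₄, hw₄]) }
  letI : Algebra R₄ S₁ := w₄'.toAlgebra
  haveI : IsScalarTower R₄ S₁ Rh := IsScalarTower.of_algebraMap_eq fun t => (hw₄ t).symm
  letI : Algebra Rh K := ((algebraMap (Rh ⧸ m) K).comp (algebraMap Rh (Rh ⧸ m))).toAlgebra
  haveI : IsScalarTower Rh (Rh ⧸ m) K := IsScalarTower.of_algebraMap_eq fun _ => rfl
  letI : Algebra S₁ K := ((algebraMap Rh K).comp (algebraMap S₁ Rh)).toAlgebra
  haveI : IsScalarTower S₁ Rh K := IsScalarTower.of_algebraMap_eq fun _ => rfl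
  letI : Algebra R₄ K := ((algebraMap Rh K).comp (algebraMap R₄ Rh)).toAlgebra
  haveI : IsScalarTower R₄ Rh K := IsScalarTower.of_algebraMap_eq fun _ => rfl
  haveI : IsScalarTower R₄ S₁ K := IsScalarTower.of_algebraMap_eq fun t => by
    show algebraMap Rh K (algebraMap R₄ Rh t) = algebraMap Rh K (algebraMap S₁ Rh (w₄ t))
    rw [hw₄]
  -- the neighbourhood
  let A' := As ⊗[R₂] S₁
  have hR₂K : ∀ y : R₂, algebraMap S₁ K (algebraMap R₂ S₁ y) = π y := fun y => by
    show algebraMap (Rh ⧸ m) K (Ideal.Quotient.mk m (algebraMap S₁ Rh (algebraMap R₂ S₁ y))) = π y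
    rw [← IsScalarTower.algebraMap_apply R₂ S₁ Rh, IsScalarTower.algebraMap_apply R₂ (Localization.AtPrime p₂) Rh]
    show v (eγ.symm (γ (algebraMap R₂ k₂ y))) = _
    rw [show γ (algebraMap R₂ k₂ y) = eγ (algebraMap R₂ k₂ y) from rfl, RingEquiv.symm_apply_apply, hv]
  letI : Algebra R₂ K := π.toAlgebra
  haveI : IsScalarTower R₂ S₁ K := IsScalarTower.of_algebraMap_eq fun y => (hR₂K y).symm
  haveI : IsScalarTower R₂ As K := IsScalarTower.of_algebraMap_eq fun _ => rfl
  let θ : A' →ₐ[As] K :=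
    Algebra.TensorProduct.lift (Algebra.ofId As K) (IsScalarTower.toAlgHom R₂ S₁ K) fun _ _ => Commute.all _ _
  letI : Algebra A' K := θ.toRingHom.toAlgebra
  haveI : IsScalarTower As A' K := IsScalarTower.of_algebraMap_eq fun y => (θ.commutes y).symm
  haveI : IsScalarTower A A' K := IsScalarTower.of_algebraMap_eq fun y => by
    exact (IsScalarTower.algebraMap_apply A As K y).trans ((IsScalarTower.algebraMap_apply As A' K _).trans
      (congrArg (algebraMap A' K) (IsScalarTower.algebraMap_apply A As A' y).symm))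
  haveI : Algebra.Etale A As := Algebra.Etale.of_isLocalizationAway s
  haveI : Algebra.Etale A A' := Algebra.Etale.comp A As A'
  letI : Algebra S₁ A' := (Algebra.TensorProduct.includeRight : S₁ →ₐ[R₂] A').toRingHom.toAlgebra
  haveI : IsScalarTower S₁ A' K := IsScalarTower.of_algebraMap_eq fun y => by
    show _ = θ ((1 : As) ⊗ₜ[R₂] y)
    rw [Algebra.TensorProduct.lift_tmul, map_one, one_mul]
    rfl
  haveI : Algebra.FinitePresentation S₁ (S₁ ⊗[R₄] B₄) := Algebra.FinitePresentation.baseChange (A := B₄) S₁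
  refine ⟨A', inferInstance, inferInstance, inferInstance, inferInstance, A' ⊗[S₁] (S₁ ⊗[R₄] B₄), inferInstance,
    inferInstance, inferInstance, Algebra.FinitePresentation.baseChange (A := S₁ ⊗[R₄] B₄) A', inferInstance, ⟨?_⟩⟩
  exact (HomLift.cancelBC S₁ A' K (S₁ ⊗[R₄] B₄)).trans
    ((HomLift.cancelBC R₄ S₁ K B₄).trans
      ((HomLift.cancelBC R₄ Rh K B₄).symm.trans
        ((bcEquiv K e₄).trans
          ((HomLift.cancelBC Rh (Rh ⧸ m) K F).symm.trans
            ((bcEquiv K eF).trans
              ((HomLift.cancelBC k₂ (Rh ⧸ m) K F₂).trans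
                ((HomLift.cancelBC R₁ k₂ K B).trans e₀)))))))

/-- A group of multiplicative type and finite type over the residue field lifts, split by a finite étale cover, to
an étale neighbourhood. -/
theorem exists_split_lift {A K : Type u} [CommRing A] [Field K] [Algebra A K]
    (hK : ∀ x : K, ∃ a s : A, algebraMap A K s ≠ 0 ∧ x * algebraMap A K s = algebraMap A K a)
    (F₀ : Type u) [CommRing F₀] [HopfAlgebra K F₀] [Algebra.FiniteType K F₀] (h : SGA3b.IsMultType K F₀) :
    ∃ (S' : Type u) (_ : CommRing S') (_ : Algebra A S') (_ : Algebra S' K) (_ : IsScalarTower A S' K)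
      (F : Type u) (_ : CommRing F) (_ : HopfAlgebra S' F),
      Algebra.Etale A S' ∧ Nonempty (K ⊗[S'] F ≃ₐc[K] F₀) ∧
        ∃ (U : Type u) (_ : CommRing U) (_ : Algebra S' U), Algebra.Etale S' U ∧ Module.Finite S' U ∧
          Module.FaithfullyFlat S' U ∧
          ∃ (M : Type u) (_ : AddCommGroup M), AddGroup.FG M ∧ Nonempty (Split S' F M U) := by
  classical
  obtain ⟨A', _, _, _, _, F', _, _, hA', hfp, hfl, ⟨e⟩⟩ := exists_flat_lift hK F₀ h
  haveI := hA'; haveI := hfp; haveI := hfl
  let p' : Ideal A' := RingHom.ker (algebraMap A' K)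
  haveI : p'.IsPrime := RingHom.ker_isPrime _
  let v : p'.ResidueField →+* K := Ideal.ResidueField.lift p' (algebraMap A' K) (fun y hy => hy)
    (fun y hy => show IsUnit _ from isUnit_iff_ne_zero.2 fun h0 => hy h0)
  have hv : ∀ y, v (algebraMap A' p'.ResidueField y) = algebraMap A' K y :=
    fun y => Ideal.ResidueField.lift_algebraMap p' _ _ _ y
  letI : Algebra p'.ResidueField K := v.toAlgebra
  haveI : IsScalarTower A' p'.ResidueField K := IsScalarTower.of_algebraMap_eq fun y => (hv y).symm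
  have hs : SGA3b.IsMultType p'.ResidueField (p'.ResidueField ⊗[A'] F') := isMultType_of_field_ext (K := K)
    (S5299.isMultType_bialgEquiv ((HomLift.cancelBC A' p'.ResidueField K F').trans e).symm h)
  obtain ⟨S', _, _, θ, F, _, _, φ, ε, hEt, hφs, hε, hker, hθ, U, _, _, hUet, hUfin, hUff, M, _, hM, ⟨E⟩⟩ :=
    exists_nhd_ring p' (fun q _ _ => inferInstance) hs
  haveI := hEt
  letI : Algebra A S' := ((algebraMap A' S').comp (algebraMap A A')).toAlgebra
  haveI : IsScalarTower A A' S' := IsScalarTower.of_algebraMap_eq fun _ => rfl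
  let vA : p'.ResidueField →ₐ[A'] K := { v with commutes' := hv }
  letI : Algebra S' K := (vA.comp θ).toRingHom.toAlgebra
  haveI : IsScalarTower A' S' K := IsScalarTower.of_algebraMap_eq fun y => ((vA.comp θ).commutes y).symm
  haveI : IsScalarTower A S' K := IsScalarTower.of_algebraMap_eq fun y => by
    exact (IsScalarTower.algebraMap_apply A A' K y).trans (IsScalarTower.algebraMap_apply A' S' K _)
  obtain ⟨ψ, hψ, hψk⟩ := exists_push_quotient φ hφs ε hker K
  have h0 : push (IsScalarTower.toAlgHom A' S' K) ε = 0 := by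
    rw [show IsScalarTower.toAlgHom A' S' K = vA.comp θ from AlgHom.ext fun _ => rfl, push_comp']
    show push vA (Algebra.TensorProduct.map θ (AlgHom.id A' F') ε) = 0
    rw [hθ, map_zero]
  have hψb : Function.Bijective ψ := ⟨(injective_iff_map_eq_zero ψ).2 fun x hx => by
    have h1 := (hψk x).1 hx
    rw [h0, Ideal.span_singleton_eq_bot.2 rfl] at h1
    exact h1, hψ⟩
  haveI : Algebra.Etale A S' := Algebra.Etale.comp A A' S'
  exact ⟨S', inferInstance, inferInstance, inferInstance, inferInstance, F, inferInstance, inferInstance,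
    inferInstance, ⟨(BialgEquiv.ofBijective ψ hψb).symm.trans e⟩, U, inferInstance, inferInstance, hUet, hUfin, hUff,
    M, inferInstance, hM, ⟨E⟩⟩

end Groth.Agent.MultNhd
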