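import Groth.Agent.DiagHopfLib.Descent
import Groth.Agent.DiagHopfLib.Nilp
import Mathlib.RingTheory.HopfAlgebra.Quotient
import Mathlib.RingTheory.Bialgebra.Quotient
import Mathlib.RingTheory.HopfAlgebra.Convolution

/-!
# Coordinates for Hopf ideals generated by idempotents
-/

set_option autoImplicit false
set_option linter.style.haveILetI false
set_option synthInstance.maxHeartbeats 200000

noncomputable section

universe u

open scoped TensorProduct
open Groth.Agent.TorusField Groth.Agent.DiagHopf

namespace Groth.Agent.MultNhd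

section

variable (R C S : Type u) [CommRing R] [CommRing C] [HopfAlgebra R C] [CommRing S] [Algebra R S]

/-- The double tensor product in coordinates. -/
def coordMap : (S ⊗[R] C) ⊗[S] (S ⊗[R] C) →ₐ[S] S ⊗[R] (C ⊗[R] C) :=
  Algebra.TensorProduct.lift (J₁ R C S) (J₂ R C S) fun _ _ => Commute.all _ _

theorem coordMap_injective : Function.Injective (coordMap R C S) := by
  let i₁ : C →ₐ[R] (S ⊗[R] C) ⊗[S] (S ⊗[R] C) :=
    ((Algebra.TensorProduct.includeLeft : S ⊗[R] C →ₐ[S] (S ⊗[R] C) ⊗[S] (S ⊗[R] C)).restrictScalars R).comp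
      Algebra.TensorProduct.includeRight
  let i₂ : C →ₐ[R] (S ⊗[R] C) ⊗[S] (S ⊗[R] C) :=
    ((Algebra.TensorProduct.includeRight : S ⊗[R] C →ₐ[S] (S ⊗[R] C) ⊗[S] (S ⊗[R] C)).restrictScalars R).comp
      Algebra.TensorProduct.includeRight
  let d : S ⊗[R] (C ⊗[R] C) →ₐ[S] (S ⊗[R] C) ⊗[S] (S ⊗[R] C) :=
    Algebra.TensorProduct.lift (Algebra.ofId S _)
      (Algebra.TensorProduct.lift i₁ i₂ fun _ _ => Commute.all _ _) fun _ _ => Commute.all _ _
  have h : d.comp (coordMap R C S) = AlgHom.id S _ := by
    refine Algebra.TensorProduct.ext ?_ (AlgHom.ext fun z => ?_)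
    · refine Algebra.TensorProduct.ext (Subsingleton.elim _ _) (AlgHom.ext fun a => ?_)
      simp [d, coordMap, J₁, J₂, i₁, i₂, Algebra.TensorProduct.one_def]
    · induction z using TensorProduct.induction_on with
      | zero => simp
      | add p q hp hq => simp only [map_add, hp, hq]
      | tmul s a =>
        have e : s ⊗ₜ[R] a = s • ((1 : S) ⊗ₜ[R] a) := by rw [TensorProduct.smul_tmul', smul_eq_mul, mul_one]
        simp only [AlgHom.comp_apply, AlgHom.coe_restrictScalars', Algebra.TensorProduct.includeRight_apply,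
          AlgHom.id_apply]
        rw [e, TensorProduct.tmul_smul, map_smul, map_smul]
        refine congrArg (fun z => s • z) ?_
        simp [d, coordMap, J₁, J₂, i₁, i₂, Algebra.TensorProduct.one_def]
  intro x y hxy
  have := congrArg d hxy
  rwa [← AlgHom.comp_apply, ← AlgHom.comp_apply, h] at this

theorem coordMap_comul (x : S ⊗[R] C) :
    coordMap R C S (Coalgebra.comul (R := S) x) = D R C S x := by
  have e : (coordMap R C S).comp (Bialgebra.comulAlgHom S (S ⊗[R] C)) = D R C S := by
    refine Algebra.TensorProduct.ext (Subsingleton.elim _ _) (AlgHom.ext fun a => ?_)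
    simp only [AlgHom.comp_apply, AlgHom.coe_restrictScalars', Algebra.TensorProduct.includeRight_apply,
      Bialgebra.comulAlgHom_apply, TensorProduct.comul_tmul, CommSemiring.comul_apply, D,
      Algebra.TensorProduct.map_tmul, AlgHom.id_apply]
    generalize CoalgebraStruct.comul (R := R) a = z
    induction z using TensorProduct.induction_on with
    | zero => simp
    | add p q hp hq => simp only [TensorProduct.tmul_add, map_add, hp, hq]
    | tmul p q =>
      simp [coordMap, J₁, J₂, TensorProduct.AlgebraTensorModule.tensorTensorTensorComm_tmul,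
        Algebra.TensorProduct.tmul_mul_tmul]
  exact DFunLike.congr_fun e x

theorem counit_eq_ev1 (x : S ⊗[R] C) : Coalgebra.counit (R := S) x = ev1 R C S x := by
  have e' : (Bialgebra.counitAlgHom S (S ⊗[R] C)) = ev1 R C S := by
    refine Algebra.TensorProduct.ext (Subsingleton.elim _ _) (AlgHom.ext fun a => ?_)
    simp [ev1, TensorProduct.counit_tmul, Algebra.smul_def]
  exact DFunLike.congr_fun e' x

theorem push_antipode {S' : Type u} [CommRing S'] [Algebra R S'] (f : S →ₐ[R] S') (x : S ⊗[R] C) :
    push f (HopfAlgebra.antipode S x) = HopfAlgebra.antipode S' (push f x) := by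
  induction x using TensorProduct.induction_on with
  | zero => simp
  | add p q hp hq => simp only [map_add, hp, hq]
  | tmul s a => simp [push, TensorProduct.antipode_def]

end

/-- A criterion for an idempotent to generate a Hopf ideal. -/
theorem isHopfIdeal_span_idempotent {S H : Type u} [CommRing S] [CommRing H] [HopfAlgebra S H] {e : H}
    (h₁ : Coalgebra.counit (R := S) e = 0)
    (h₂ : Coalgebra.comul (R := S) e * ((1 - e) ⊗ₜ[S] (1 - e)) = 0)
    (h₃ : HopfAlgebra.antipode S e * (1 - e) = 0) : (Ideal.span {e}).IsHopfIdeal S := by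
  let J := Ideal.span ({e} : Set H)
  let m : H →ₐ[S] H ⧸ J := Ideal.Quotient.mkₐ S J
  have hm : m e = 0 := Ideal.Quotient.eq_zero_iff_mem.2 (Ideal.subset_span rfl)
  have hm1 : m (1 - e) = 1 := by rw [map_sub, map_one, hm, sub_zero]
  refine { counit_eq_zero := fun x hx => ?_, map_mkQ_comul_eq_zero := fun x hx => ?_, antipode_mem := fun x hx => ?_ }
  · obtain ⟨y, rfl⟩ := Ideal.mem_span_singleton'.1 hx
    rw [← Bialgebra.counitAlgHom_apply, map_mul, Bialgebra.counitAlgHom_apply, Bialgebra.counitAlgHom_apply, h₁,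
      mul_zero]
  · obtain ⟨y, rfl⟩ := Ideal.mem_span_singleton'.1 hx
    let P : H ⊗[S] H →ₐ[S] (H ⧸ J) ⊗[S] (H ⧸ J) := Algebra.TensorProduct.map m m
    suffices h : P (Coalgebra.comul (R := S) (y * e)) = 0 by exact h
    have he : P (Coalgebra.comul (R := S) e) = 0 := by
      have h := congrArg P h₂
      rwa [map_mul, Algebra.TensorProduct.map_tmul, hm1, map_zero, ← Algebra.TensorProduct.one_def, mul_one] at h
    rw [← Bialgebra.comulAlgHom_apply, map_mul, Bialgebra.comulAlgHom_apply, Bialgebra.comulAlgHom_apply, map_mul, he,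
      mul_zero]
  · obtain ⟨y, rfl⟩ := Ideal.mem_span_singleton'.1 hx
    have he : HopfAlgebra.antipode S e ∈ J := by
      refine Ideal.mem_span_singleton'.2 ⟨HopfAlgebra.antipode S e, ?_⟩
      rw [mul_sub, mul_one, sub_eq_zero] at h₃
      exact h₃.symm
    rw [show HopfAlgebra.antipode S (y * e) = HopfAlgebra.antipodeAlgHom S H (y * e) from rfl, map_mul]
    exact Ideal.mul_mem_left _ _ he

/-- The converse. -/
theorem eqns_of_isHopfIdeal {S H : Type u} [CommRing S] [CommRing H] [HopfAlgebra S H] {e : H}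
    (he : IsIdempotentElem e) (h : (Ideal.span {e}).IsHopfIdeal S) :
    Coalgebra.counit (R := S) e = 0 ∧ Coalgebra.comul (R := S) e * ((1 - e) ⊗ₜ[S] (1 - e)) = 0 ∧
      HopfAlgebra.antipode S e * (1 - e) = 0 := by
  let J := Ideal.span ({e} : Set H)
  have hmem : e ∈ J := Ideal.subset_span rfl
  have hz : ∀ y ∈ J, y * (1 - e) = 0 := fun y hy => by
    obtain ⟨c, rfl⟩ := Ideal.mem_span_singleton'.1 hy
    rw [mul_sub, mul_one, mul_assoc, he.eq, sub_self]
  refine ⟨h.counit_eq_zero hmem, ?_, hz _ (h.antipode_mem hmem)⟩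
  let μ : H ⧸ J.restrictScalars S →ₗ[S] H :=
    Submodule.liftQ _ (LinearMap.mulRight S (1 - e)) fun y hy => by
      rw [LinearMap.mem_ker, LinearMap.mulRight_apply]
      exact hz y hy
  have key : ∀ z : H ⊗[S] H, TensorProduct.map μ μ (TensorProduct.map (J.restrictScalars S).mkQ
      (J.restrictScalars S).mkQ z) = z * ((1 - e) ⊗ₜ[S] (1 - e)) := fun z => by
    induction z using TensorProduct.induction_on with
    | zero => simp
    | add p q hp hq => simp only [map_add, add_mul, hp, hq]
    | tmul p q => simp [μ, Algebra.TensorProduct.tmul_mul_tmul]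
  rw [← key, h.map_mkQ_comul_eq_zero hmem, map_zero]

/-- An algebra map is a bialgebra map if it is one after a surjective bialgebra map. -/
theorem exists_bialgHom_of_comp {S X Y Z : Type u} [CommRing S] [CommRing X] [CommRing Y] [CommRing Z]
    [Bialgebra S X] [Bialgebra S Y] [Bialgebra S Z] (π : X →ₐc[S] Y) (hπ : Function.Surjective π) (η : X →ₐc[S] Z)
    (ψ : Y →ₐ[S] Z) (h : ∀ x, ψ (π x) = η x) : ∃ ψc : Y →ₐc[S] Z, ∀ y, ψc y = ψ y := by
  refine ⟨BialgHom.ofAlgHom ψ
    (AlgHom.ext fun y => by
      obtain ⟨x, rfl⟩ := hπ y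
      show Bialgebra.counitAlgHom S Z (ψ (π x)) = _
      rw [h]
      exact (CoalgHomClass.counit_comp_apply η x).trans (CoalgHomClass.counit_comp_apply π x).symm)
    (AlgHom.ext fun y => by
      obtain ⟨x, rfl⟩ := hπ y
      show Algebra.TensorProduct.map ψ ψ (Coalgebra.comul (R := S) (π x)) = Coalgebra.comul (R := S) (ψ (π x))
      rw [h, ← CoalgHomClass.map_comp_comul_apply π x, ← CoalgHomClass.map_comp_comul_apply η x]
      generalize Coalgebra.comul (R := S) x = z
      induction z using TensorProduct.induction_on with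
      | zero => simp
      | add p q hp hq => simp only [map_add, hp, hq]
      | tmul p q =>
        show ψ (π p) ⊗ₜ[S] ψ (π q) = η p ⊗ₜ[S] η q
        rw [h, h]), fun _ => rfl⟩

variable {R₀ : Type u} [CommRing R₀] {B : Type u} [CommRing B] [HopfAlgebra R₀ B]

/-- A splitting with elements and coordinates over a subalgebra is defined over it. -/
theorem exists_split_descend' {T U : Type u} [CommRing T] [CommRing U] [Algebra R₀ T] [Algebra R₀ U]
    (ι : U →ₐ[R₀] T) (hι : Function.Injective ι) (hinj : Function.Injective (push (A := B) ι))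
    (hinj₂ : Function.Injective (push₂ (A := B) ι)) {M : Type u} [AddCommGroup M] (E : Split R₀ B M T)
    (gens : Set M) (hgens : AddSubmonoid.closure gens = ⊤) (hm : ∀ m ∈ gens, E.e m ∈ (push (A := B) ι).range)
    (G : Set B) (hG : Algebra.adjoin R₀ G = ⊤)
    (hb : ∀ b ∈ G, ∀ m, E.e.repr ((1 : T) ⊗ₜ[R₀] b) m ∈ ι.range) : Nonempty (Split R₀ B M U) := by
  classical
  have hm' : ∀ m, E.e m ∈ (push (A := B) ι).range := fun m => by
    have hm₀ : m ∈ AddSubmonoid.closure gens := hgens ▸ AddSubmonoid.mem_top m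
    induction hm₀ using AddSubmonoid.closure_induction with
    | mem x hx => exact hm x hx
    | zero => rw [E.e_zero]; exact one_mem _
    | add a b _ _ ha hb => rw [E.e_add]; exact mul_mem ha hb
  choose y hy using fun m => (AlgHom.mem_range _).1 (hm' m)
  have hy0 : y 0 = 1 := hinj (by rw [hy, E.e_zero, map_one])
  have hyadd : ∀ a b, y (a + b) = y a * y b := fun a b => hinj (by rw [hy, E.e_add, map_mul, hy, hy])
  have hygl : ∀ a, IsGL R₀ B U (y a) := fun a => by
    have h := E.gl a
    rw [← hy a] at h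
    refine ⟨hinj₂ ?_, hι ?_⟩
    · rw [push_D, map_mul, push_J₁, push_J₂, h.1]
    · rw [push_ev1, h.2, map_one]
  have hli : LinearIndependent U y := by
    rw [linearIndependent_iff']
    intro s t hs g hg
    apply hι
    rw [map_zero]
    have h := congrArg (push (A := B) ι) hs
    simp only [map_sum, push_smul, hy, map_zero] at h
    exact linearIndependent_iff'.1 E.e.linearIndependent s (fun i => ι (t i)) h g hg
  have hspan : ⊤ ≤ Submodule.span U (Set.range y) := by
    let P : Submodule U (U ⊗[R₀] B) := Submodule.span U (Set.range y)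
    have hone : (1 : U ⊗[R₀] B) ∈ P := Submodule.subset_span ⟨0, hy0⟩
    have hmul : ∀ u v, u ∈ P → v ∈ P → u * v ∈ P := by
      intro u v hu hv
      have h := Submodule.mul_mem_mul hu hv
      rw [Submodule.span_mul_span] at h
      refine Submodule.span_mono ?_ h
      rintro z ⟨_, ⟨a, rfl⟩, _, ⟨b, rfl⟩, rfl⟩
      exact ⟨a + b, hyadd a b⟩
    let Q := P.toSubalgebra hone hmul
    have hgen : ∀ b ∈ G, (1 : U) ⊗ₜ[R₀] b ∈ P := by
      intro b hbG
      choose c hc using fun m => (AlgHom.mem_range _).1 (hb b hbG m)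
      have : (1 : U) ⊗ₜ[R₀] b = ∑ m ∈ (E.e.repr ((1 : T) ⊗ₜ[R₀] b)).support, c m • y m := by
        apply hinj
        simp only [map_sum, push_smul, hy, hc]
        conv_lhs => rw [show push ι ((1 : U) ⊗ₜ[R₀] b) = (1 : T) ⊗ₜ[R₀] b by simp [push]]
        exact (E.e.linearCombination_repr _).symm
      rw [this]
      exact sum_mem fun m _ => Submodule.smul_mem _ _ (Submodule.subset_span ⟨m, rfl⟩)
    have hA : ∀ b : B, (1 : U) ⊗ₜ[R₀] b ∈ Q := fun b =>
      (show Algebra.adjoin R₀ G ≤ (Q.restrictScalars R₀).comap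
          (Algebra.TensorProduct.includeRight : B →ₐ[R₀] U ⊗[R₀] B) from
        Algebra.adjoin_le fun g hg => hgen g hg) (hG ▸ Algebra.mem_top : b ∈ Algebra.adjoin R₀ G)
    intro z hz
    clear hz
    induction z using TensorProduct.induction_on with
    | zero => exact zero_mem _
    | add p q hp hq => exact add_mem hp hq
    | tmul t a =>
      rw [show t ⊗ₜ[R₀] a = t • ((1 : U) ⊗ₜ[R₀] a) by rw [TensorProduct.smul_tmul', smul_eq_mul, mul_one]]
      exact P.smul_mem t (hA a)
  exact ⟨⟨Module.Basis.mk hli hspan, by rw [Module.Basis.mk_apply, hy0],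
    fun a b => by rw [Module.Basis.mk_apply, Module.Basis.mk_apply, Module.Basis.mk_apply, hyadd],
    fun a => by rw [Module.Basis.mk_apply]; exact hygl a⟩⟩

end Groth.Agent.MultNhd
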