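import Groth.Agent.AzumayaLib.Etale
import Groth.Agent.CplHomLib.Main
import Mathlib.FieldTheory.PrimitiveElement

/-!
# Splitting by a root of a separable monic polynomial over a henselian local ring
-/

set_option autoImplicit false
set_option linter.style.haveILetI false
set_option synthInstance.maxHeartbeats 200000

noncomputable section

universe u

open scoped TensorProduct Polynomial
open Groth.Agent.TorusField Groth.Agent.DiagHopf Polynomial

namespace Groth.Agent.MultNhd

/-- A finite flat unramified local algebra is generated by a root of a separable monic polynomial. -/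
theorem exists_adjoinRoot_equiv {R T : Type u} [CommRing R] [IsLocalRing R] [CommRing T] [HenselianLocalRing T]
    [Algebra R T] [Module.Finite R T] [Module.FaithfullyFlat R T] [Algebra.FormallyUnramified R T]
    (hmT : (IsLocalRing.maximalIdeal R).map (algebraMap R T) = IsLocalRing.maximalIdeal T) :
    ∃ f : R[X], f.Monic ∧ f.Separable ∧ Nonempty (T ≃ₐ[R] AdjoinRoot f) := by
  classical
  let κ := IsLocalRing.ResidueField R
  let k' := IsLocalRing.ResidueField T
  haveI : IsLocalHom (algebraMap R T) := by
    refine ((IsLocalRing.local_hom_TFAE (algebraMap R T)).out 0 4).mpr ?_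
    exact IsLocalRing.eq_maximalIdeal
      (Ideal.isMaximal_comap_of_isIntegral_of_isMaximal (R := R) (IsLocalRing.maximalIdeal T))
  haveI : Module.Free R T := Module.free_of_flat_of_isLocalRing
  haveI : Module.Finite R k' := Module.Finite.of_surjective (IsScalarTower.toAlgHom R T k').toLinearMap
    IsLocalRing.residue_surjective
  haveI : Module.Finite κ k' := Module.Finite.of_restrictScalars_finite R κ k'
  haveI : Algebra.FormallyUnramified R k' := Algebra.FormallyUnramified.of_surjective
    (IsScalarTower.toAlgHom R T k') IsLocalRing.residue_surjective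
  haveI : Algebra.FormallyUnramified κ k' := Algebra.FormallyUnramified.of_restrictScalars R κ k'
  haveI : Algebra.IsSeparable κ k' := Algebra.FormallyUnramified.isSeparable κ k'
  obtain ⟨β, hβ⟩ := Field.exists_primitive_element κ k'
  have hint : IsIntegral κ β := IsIntegral.of_finite κ β
  obtain ⟨f, hf, hfd, hfm⟩ := Polynomial.lifts_and_degree_eq_and_monic
    (Polynomial.map_surjective _ IsLocalRing.residue_surjective (minpoly κ β)) (minpoly.monic hint)
  have hfd' : f.natDegree = (minpoly κ β).natDegree := Polynomial.natDegree_eq_of_degree_eq hfd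
  have hfs : f.Separable := AzumayaLib.Et.separable_of_map hfm (by
    rw [show (algebraMap R κ) = IsLocalRing.residue R from rfl, hf]
    exact Algebra.IsSeparable.isSeparable κ β)
  obtain ⟨α₀, hα₀⟩ := IsLocalRing.residue_surjective β
  have hres : ∀ g : R[X], IsLocalRing.residue T ((g.map (algebraMap R T)).eval α₀) =
      aeval β (g.map (IsLocalRing.residue R)) := fun g => by
    rw [Polynomial.eval_map, Polynomial.hom_eval₂, hα₀, aeval_def, Polynomial.eval₂_map]
    rfl
  have h0 : (f.map (algebraMap R T)).eval α₀ ∈ IsLocalRing.maximalIdeal T := by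
    rw [← IsLocalRing.residue_eq_zero_iff, hres, hf, minpoly.aeval]
  have h1 : IsUnit ((f.map (algebraMap R T)).derivative.eval α₀) := by
    rw [← IsLocalRing.residue_ne_zero_iff_isUnit, derivative_map, hres, ← derivative_map, hf]
    exact (Algebra.IsSeparable.isSeparable κ β).aeval_derivative_ne_zero (minpoly.aeval κ β)
  obtain ⟨α, hα, hαα⟩ := HenselianLocalRing.is_henselian _ (hfm.map _) α₀ h0 h1
  have hαf : aeval α f = 0 := by rwa [aeval_def, ← eval_map]
  let u : AdjoinRoot f →ₐ[R] T := AdjoinRoot.liftAlgHom f (Algebra.ofId R T) α hαf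
  have hαβ : IsLocalRing.residue T α = β := by
    rw [← hα₀, ← sub_eq_zero, ← map_sub, IsLocalRing.residue_eq_zero_iff]; exact hαα
  have hsurj : Function.Surjective u := by
    have htop : (⊤ : Submodule R T) ≤ LinearMap.range u.toLinearMap ⊔ IsLocalRing.maximalIdeal R • ⊤ := by
      intro t _
      have hadj : Algebra.adjoin κ {β} = ⊤ := by
        rw [← IntermediateField.adjoin_simple_toSubalgebra_of_isAlgebraic hint.isAlgebraic, hβ,
          IntermediateField.top_toSubalgebra]
      obtain ⟨g, hg⟩ : ∃ g : κ[X], aeval β g = IsLocalRing.residue T t := by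
        have : IsLocalRing.residue T t ∈ Algebra.adjoin κ {β} := hadj ▸ Algebra.mem_top
        rwa [Algebra.adjoin_singleton_eq_range_aeval] at this
      obtain ⟨g, rfl⟩ := Polynomial.map_surjective _ IsLocalRing.residue_surjective g
      have hm : t - aeval α g ∈ IsLocalRing.maximalIdeal T := by
        rw [← IsLocalRing.residue_eq_zero_iff, map_sub, sub_eq_zero, ← hg]
        rw [aeval_def, Polynomial.eval₂_map, aeval_def, Polynomial.hom_eval₂, hαβ]
        rfl
      rw [← sub_add_cancel t (aeval α g), add_comm]
      refine Submodule.add_mem_sup ⟨AdjoinRoot.mk f g, ?_⟩ ?_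
      · show u (AdjoinRoot.mk f g) = _
        simp [u, aeval_def]
      · rw [Ideal.smul_top_eq_map, Submodule.restrictScalars_mem, hmT]; exact hm
    have := Submodule.le_of_le_smul_of_le_jacobson_bot (Module.finite_def.1 inferInstance)
      (IsLocalRing.maximalIdeal_le_jacobson _) htop
    exact fun t => this trivial
  haveI := hfm.finite_adjoinRoot
  haveI := hfm.free_adjoinRoot
  have hrank : Module.finrank R T = Module.finrank R (AdjoinRoot f) := by
    have e1 : Module.finrank R (AdjoinRoot f) = f.natDegree := by
      rw [(AdjoinRoot.powerBasis' hfm).finrank, AdjoinRoot.powerBasis'_dim]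
    have e2 : Module.finrank κ k' = Module.finrank R T := by
      rw [← IsLocalRing.finrank_quotient_map (R := R) (S := T)]
      refine (Algebra.finrank_eq_of_equiv_equiv
        (RingEquiv.refl (R ⧸ IsLocalRing.maximalIdeal R) : R ⧸ IsLocalRing.maximalIdeal R ≃+* κ)
        (Ideal.quotEquivOfEq hmT : T ⧸ _ ≃+* k') ?_).symm
      refine RingHom.ext fun c => ?_
      obtain ⟨r, rfl⟩ := Ideal.Quotient.mk_surjective c
      rfl
    rw [← e2, e1, hfd', ← IntermediateField.adjoin.finrank hint, hβ, IntermediateField.finrank_top']
  have hbij : Function.Bijective u :=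
    ⟨fun x y hxy => by
      let e := LinearEquiv.ofFinrankEq T (AdjoinRoot f) hrank
      have h := OrzechProperty.injective_of_surjective_endomorphism (e.toLinearMap ∘ₗ u.toLinearMap)
        (e.surjective.comp hsurj)
      exact h (congrArg e hxy), hsurj⟩
  exact ⟨f, hfm, hfs, ⟨(AlgEquiv.ofBijective u hbij).symm⟩⟩

end Groth.Agent.MultNhd
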