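import Groth.Agent.MultNhdLib.HensModel
import Groth.Agent.MultNhdLib.Root
import Groth.Agent.S0506
import Groth.Agent.S0508

/-!
# Descent of the subgroup of multiplicative type to an étale neighbourhood
-/

set_option autoImplicit false
set_option backward.isDefEq.respectTransparency false
set_option linter.style.haveILetI false
set_option synthInstance.maxHeartbeats 400000
set_option synthInstance.maxSize 1024
set_option maxHeartbeats 1600000

noncomputable section

universe u

open scoped TensorProduct Polynomial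
open Groth.Agent.TorusField Groth.Agent.DiagHopf Polynomial

namespace Groth.Agent.MultNhd

/-- The coefficients of an element of a scalar extension. -/
theorem exists_coeffs {R L X : Type u} [CommRing R] [CommRing L] [Algebra R L] [CommRing X] [Algebra R X]
    (z : L ⊗[R] X) :
    ∃ s : Finset L, ∀ (S' : Type u) [CommRing S'] [Algebra R S'] [Algebra S' L] [IsScalarTower R S' L],
      (∀ x ∈ s, x ∈ (algebraMap S' L).range) → z ∈ (toHens R L S' X).range := by
  classical
  induction z using TensorProduct.induction_on with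
  | zero => exact ⟨∅, fun S' _ _ _ _ _ => zero_mem _⟩
  | add a b ha hb =>
    obtain ⟨s, hs⟩ := ha
    obtain ⟨t, ht⟩ := hb
    exact ⟨s ∪ t, fun S' _ _ _ _ h => add_mem (hs S' fun x hx => h x (Finset.mem_union_left _ hx))
      (ht S' fun x hx => h x (Finset.mem_union_right _ hx))⟩
  | tmul l x =>
    refine ⟨{l}, fun S' _ _ _ _ h => ?_⟩
    obtain ⟨y, rfl⟩ := h l (Finset.mem_singleton_self l)
    exact ⟨y ⊗ₜ x, by simp [toHens]⟩

/-- The coefficients of an element of a double scalar extension. -/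
theorem exists_coeffs₂ {R L X W : Type u} [CommRing R] [CommRing L] [Algebra R L] [CommRing X] [Algebra R X]
    [CommRing W] [Algebra R W] (z : (L ⊗[R] X) ⊗[R] W) :
    ∃ s : Finset L, ∀ (S' : Type u) [CommRing S'] [Algebra R S'] [Algebra S' L] [IsScalarTower R S' L],
      (∀ x ∈ s, x ∈ (algebraMap S' L).range) → z ∈ (Algebra.TensorProduct.map (toHens R L S' X) (AlgHom.id R W)).range := by
  classical
  induction z using TensorProduct.induction_on with
  | zero => exact ⟨∅, fun S' _ _ _ _ _ => zero_mem _⟩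
  | add a b ha hb =>
    obtain ⟨s, hs⟩ := ha
    obtain ⟨t, ht⟩ := hb
    exact ⟨s ∪ t, fun S' _ _ _ _ h => add_mem (hs S' fun x hx => h x (Finset.mem_union_left _ hx))
      (ht S' fun x hx => h x (Finset.mem_union_right _ hx))⟩
  | tmul l w =>
    obtain ⟨s, hs⟩ := exists_coeffs l
    refine ⟨s, fun S' _ _ _ _ h => ?_⟩
    obtain ⟨y, rfl⟩ := hs S' h
    exact ⟨y ⊗ₜ w, by simp⟩

/-- Injectivity on a reassociated tensor product. -/
theorem injective_map_assoc {R A A' B W : Type u} [CommRing R] [CommRing A] [CommRing A'] [CommRing B] [CommRing W]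
    [Algebra R A] [Algebra R A'] [Algebra R B] [Algebra R W] (f : A →ₐ[R] A')
    (h : Function.Injective (Algebra.TensorProduct.map f (AlgHom.id R (B ⊗[R] W)))) :
    Function.Injective (Algebra.TensorProduct.map (Algebra.TensorProduct.map f (AlgHom.id R B)) (AlgHom.id R W)) := by
  have e : ∀ z, TensorProduct.assoc R A' B W
      (Algebra.TensorProduct.map (Algebra.TensorProduct.map f (AlgHom.id R B)) (AlgHom.id R W) z) =
      Algebra.TensorProduct.map f (AlgHom.id R (B ⊗[R] W)) (TensorProduct.assoc R A B W z) := fun z => by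
    induction z using TensorProduct.induction_on with
    | zero => simp
    | add p q hp hq => simp only [map_add, hp, hq]
    | tmul p w =>
      induction p using TensorProduct.induction_on with
      | zero => simp
      | add p q hp hq => simp only [TensorProduct.add_tmul, map_add, hp, hq]
      | tmul a b => simp
  intro x y hxy
  exact (TensorProduct.assoc R A B W).injective (h (by rw [← e, ← e, hxy]))

/-- The first stage. -/
theorem exists_stage_base {R Rh : Type u} [CommRing R] [CommRing Rh] [IsLocalRing Rh] (p : Ideal R) [p.IsPrime]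
    [Algebra (Localization.AtPrime p) Rh] [IsLocalHom (algebraMap (Localization.AtPrime p) Rh)]
    [Hensel.IsHenselization (Localization.AtPrime p) Rh] [Algebra R Rh] [IsScalarTower R (Localization.AtPrime p) Rh]
    [IsNoetherianRing R] (s : Finset Rh) (X Y : Type u) [CommRing X] [Algebra R X] [Algebra.FiniteType R X]
    [CommRing Y] [Algebra R Y] [Algebra.FiniteType R Y] :
    ∃ (S' : Type u) (_ : CommRing S') (_ : Algebra R S') (_ : Algebra S' Rh) (_ : IsScalarTower R S' Rh),
      Algebra.Etale R S' ∧ (∀ x ∈ s, x ∈ (algebraMap S' Rh).range) ∧ Function.Injective (algebraMap S' Rh) ∧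
        Function.Injective (toHens R Rh S' X) ∧ Function.Injective (toHens R Rh S' Y) := by
  obtain ⟨S', cS, a₁, a₂, a₃, t₁, t₂, t₃, h1, -, h3, h4, h5, h6⟩ := exists_stage p (S := R) s X Y
  have hEq : a₁ = a₂ := Algebra.algebra_ext _ _ fun r => by
    have := @IsScalarTower.algebraMap_apply R R S' _ _ _ _ a₂ a₁ t₁ r
    simpa using this
  subst hEq
  exact ⟨S', cS, a₁, a₃, t₂, h1, h3, h4, h5, h6⟩

/-- Near a point whose fibre is of multiplicative type and consists of flat points there is, over an étale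
neighbourhood, an open and closed isotrivial subgroup of multiplicative type with the same fibre. -/
theorem exists_nhd_noetherian {R : Type u} [CommRing R] [IsNoetherianRing R] {C : Type u} [CommRing C]
    [HopfAlgebra R C] [Algebra.FiniteType R C] (p : Ideal R) [p.IsPrime]
    (hfl : ∀ (q : Ideal C) [q.IsPrime], q.comap (algebraMap R C) = p → Module.Flat R (Localization.AtPrime q))
    (hs : SGA3b.IsMultType p.ResidueField (p.ResidueField ⊗[R] C)) :
    ∃ (S₁ : Type u) (_ : CommRing S₁) (_ : Algebra R S₁) (e : S₁ ⊗[R] C) (_ : IsIdempotentElem e)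
      (_ : (Ideal.span {e}).IsHopfIdeal S₁) (S₂ : Type u) (_ : CommRing S₂) (_ : Algebra R S₂) (_ : Algebra S₁ S₂)
      (_ : IsScalarTower R S₁ S₂) (q : Ideal S₂) (_ : q.IsPrime) (hq : p = q.comap (algebraMap R S₂)),
      Algebra.Etale R S₁ ∧ Algebra.Etale R S₂ ∧
      Function.Bijective (Ideal.ResidueField.map p q (algebraMap R S₂) hq) ∧
      push ((IsScalarTower.toAlgHom R S₂ q.ResidueField).comp (IsScalarTower.toAlgHom R S₁ S₂)) e = 0 ∧
      ∃ (U : Type u) (_ : CommRing U) (_ : Algebra S₁ U) (_ : Algebra S₂ U) (_ : IsScalarTower S₁ S₂ U),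
        Algebra.Etale S₂ U ∧ Module.Finite S₂ U ∧ Module.FaithfullyFlat S₂ U ∧
        ∃ (M : Type u) (_ : AddCommGroup M), AddGroup.FG M ∧
          Nonempty (Split S₁ ((S₁ ⊗[R] C) ⧸ Ideal.span {e}) M U) := by
  classical
  obtain ⟨Rh, _, _, _, _, hH⟩ := Groth.Agent.S0506.result (Localization.AtPrime p)
  haveI := hH
  letI : Algebra R Rh :=
    ((algebraMap (Localization.AtPrime p) Rh).comp (algebraMap R (Localization.AtPrime p))).toAlgebra
  haveI : IsScalarTower R (Localization.AtPrime p) Rh := IsScalarTower.of_algebraMap_eq fun _ => rfl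
  haveI : HenselianLocalRing Rh := Hensel.IsHenselization.henselian (R := Localization.AtPrime p)
  haveI : IsNoetherianRing Rh := (Groth.Agent.S0511.result (Localization.AtPrime p) Rh).1 inferInstance
  obtain ⟨F, _, _, φ, -, hFmt, hFft, hsurj, ε, hε, hker, hεm⟩ := exists_model_henselization (Rh := Rh) p hfl hs
  haveI := hFft
  obtain ⟨T, _, _, _, M, _, hTfin, hTff, hTu, hmT, ⟨ET⟩⟩ := CplHom.exists_local_split hFft hFmt
  haveI := hTfin; haveI := hTff; haveI := hTu
  obtain ⟨f, hfm, hfs, ⟨β₀⟩⟩ := exists_adjoinRoot_equiv (R := Rh) (T := T) hmT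
  obtain ⟨EL, -⟩ := exists_split_push ET β₀.toAlgHom
  haveI : Nontrivial (AdjoinRoot f) := β₀.symm.toAlgHom.toRingHom.domain_nontrivial
  haveI hMfg' : AddMonoid.FG M := fg_of_split' EL
  -- the first stage
  obtain ⟨a, b, hab⟩ := hfs
  obtain ⟨sε, hsε⟩ := exists_coeffs ε
  let coef : Rh[X] → Finset Rh := fun g => g.support.image g.coeff
  haveI : Algebra.FiniteType R (C ⊗[R] C) :=
    Algebra.FiniteType.trans (S := C) inferInstance (Algebra.FiniteType.baseChange (A := C) C)
  obtain ⟨S₁, _, _, _, _, hS₁et, hS₁mem, hS₁inj, hC₁, hC₂⟩ :=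
    exists_stage_base p (sε ∪ coef f ∪ coef a ∪ coef b) C (C ⊗[R] C)
  haveI := hS₁et
  let ι₁ : S₁ →ₐ[R] Rh := IsScalarTower.toAlgHom R S₁ Rh
  have hlift : ∀ g : Rh[X], (∀ x ∈ coef g, x ∈ (algebraMap S₁ Rh).range) → g ∈ lifts (algebraMap S₁ Rh) := by
    intro g hg
    rw [lifts_iff_coeff_lifts]
    intro n
    by_cases hn : g.coeff n = 0
    · exact ⟨0, by rw [map_zero, hn]⟩
    · exact hg _ (Finset.mem_image.2 ⟨n, Polynomial.mem_support_iff.2 hn, rfl⟩)
  obtain ⟨f₁, hf₁⟩ := (mem_lifts f).1 (hlift f fun x hx => hS₁mem x (by simp [hx]))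
  obtain ⟨a₁, ha₁⟩ := (mem_lifts a).1 (hlift a fun x hx => hS₁mem x (by simp [hx]))
  obtain ⟨b₁, hb₁⟩ := (mem_lifts b).1 (hlift b fun x hx => hS₁mem x (by simp [hx]))
  have hf₁m : f₁.Monic := monic_of_injective hS₁inj (hf₁.symm ▸ hfm)
  have hf₁s : f₁.Separable := ⟨a₁, b₁, map_injective _ hS₁inj (by
    rw [Polynomial.map_add, Polynomial.map_mul, Polynomial.map_mul, Polynomial.map_one, ← derivative_map, ha₁, hb₁,
      hf₁, hab])⟩
  obtain ⟨e, he⟩ := (AlgHom.mem_range _).1 (hsε S₁ fun x hx => hS₁mem x (by simp [hx]))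
  change push (A := C) ι₁ e = ε at he
  have hpush : Function.Injective (push (A := C) ι₁) := hC₁
  have hpush₂ : Function.Injective (push₂ (A := C) ι₁) := hC₂
  have hee : IsIdempotentElem e := hpush (by rw [map_mul, he, hε.eq])
  -- the Hopf ideal
  obtain ⟨hc, hΔ, hS⟩ := eqns_of_isHopfIdeal hε (HomLift.isHopfIdeal_of_ker φ hsurj hker)
  have hhopf : (Ideal.span {e}).IsHopfIdeal S₁ := by
    refine isHopfIdeal_span_idempotent ?_ ?_ ?_
    · refine hS₁inj ?_
      rw [map_zero, counit_eq_ev1]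
      show ι₁ (ev1 R C S₁ e) = 0
      rw [push_ev1, he, ← counit_eq_ev1, hc]
    · refine coordMap_injective R C S₁ (hpush₂ ?_)
      rw [map_zero, map_zero, map_mul, map_mul, coordMap_comul, push_D, he]
      have h := congrArg (coordMap R C Rh) hΔ
      rw [map_zero, map_mul, coordMap_comul] at h
      rw [← h]
      congr 1
      simp only [coordMap, Algebra.TensorProduct.lift_tmul, map_mul, push_J₁, push_J₂, map_sub, map_one, he]
    · refine hpush ?_
      rw [map_zero, map_mul, push_antipode, map_sub, map_one, he, hS]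
  haveI := hhopf
  -- comparison with the group over the henselization
  let J := Ideal.span ({e} : Set (S₁ ⊗[R] C))
  let G₁ := (S₁ ⊗[R] C) ⧸ J
  letI : CommRing G₁ := Ideal.Quotient.commRing J
  letI : Algebra S₁ G₁ := Ideal.Quotient.algebra S₁
  haveI : Algebra.FiniteType S₁ (S₁ ⊗[R] C) := Algebra.FiniteType.baseChange (A := C) S₁
  haveI : Algebra.FiniteType S₁ G₁ :=
    Algebra.FiniteType.of_surjective (Ideal.Quotient.mkₐ S₁ J) Ideal.Quotient.mk_surjective
  let mk : S₁ ⊗[R] C →ₐc[S₁] G₁ := Bialgebra.Quotient.mkBialgHom J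
  let η : Rh ⊗[S₁] (S₁ ⊗[R] C) →ₐc[Rh] F := φ.comp (HomLift.cancelBC R S₁ Rh C).toBialgHom
  let π : Rh ⊗[S₁] (S₁ ⊗[R] C) →ₐc[Rh] Rh ⊗[S₁] G₁ := Bialgebra.TensorProduct.map (BialgHom.id Rh Rh) mk
  letI : Algebra S₁ F := ((algebraMap Rh F).comp (algebraMap S₁ Rh)).toAlgebra
  haveI : IsScalarTower S₁ Rh F := IsScalarTower.of_algebraMap_eq fun _ => rfl
  have hcan : ∀ x : S₁ ⊗[R] C, HomLift.cancelBC R S₁ Rh C ((1 : Rh) ⊗ₜ[S₁] x) = push ι₁ x := fun x => by
    induction x using TensorProduct.induction_on with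
    | zero => simp
    | add p q hp hq => simp only [TensorProduct.tmul_add, map_add, hp, hq]
    | tmul s c => simp [HomLift.cancelBC, push, ι₁, Algebra.smul_def]
  let η₀ : S₁ ⊗[R] C →ₐ[S₁] F :=
    (((η : Rh ⊗[S₁] (S₁ ⊗[R] C) →ₐ[Rh] F)).restrictScalars S₁).comp Algebra.TensorProduct.includeRight
  have hη₀ : η₀ e = 0 := by
    show φ (HomLift.cancelBC R S₁ Rh C ((1 : Rh) ⊗ₜ[S₁] e)) = 0
    rw [hcan, he]
    exact (hker ε).2 (Ideal.subset_span rfl)
  let ψ : Rh ⊗[S₁] G₁ →ₐ[Rh] F := Algebra.TensorProduct.lift (Algebra.ofId Rh F)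
    (Ideal.Quotient.liftₐ J η₀ fun x hx => by
      obtain ⟨c, rfl⟩ := Ideal.mem_span_singleton'.1 hx
      rw [map_mul, hη₀, mul_zero]) fun _ _ => Commute.all _ _
  have hψπ : ∀ x, ψ (π x) = η x := fun x => by
    induction x using TensorProduct.induction_on with
    | zero => simp
    | add p q hp hq => simp only [map_add, hp, hq]
    | tmul r x =>
      have e1 : π (r ⊗ₜ[S₁] x) = r ⊗ₜ[S₁] mk x := rfl
      have e2 : r ⊗ₜ[S₁] x = r • ((1 : Rh) ⊗ₜ[S₁] x) := by rw [TensorProduct.smul_tmul', smul_eq_mul, mul_one]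
      rw [e1, Algebra.TensorProduct.lift_tmul, e2, map_smul, Algebra.smul_def]
      rfl
  have hπ : Function.Surjective π := fun y => by
    induction y using TensorProduct.induction_on with
    | zero => exact ⟨0, map_zero π⟩
    | add p q hp hq =>
      obtain ⟨x, rfl⟩ := hp
      obtain ⟨x', rfl⟩ := hq
      exact ⟨x + x', map_add π x x'⟩
    | tmul r g =>
      obtain ⟨x, rfl⟩ := Ideal.Quotient.mk_surjective g
      exact ⟨r ⊗ₜ x, rfl⟩
  obtain ⟨ψc, hψc⟩ := exists_bialgHom_of_comp (S := Rh) (X := Rh ⊗[S₁] (S₁ ⊗[R] C)) (Y := Rh ⊗[S₁] G₁) (Z := F) π hπ η ψ hψπ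
  have hψb : Function.Bijective ψc := by
    refine ⟨(injective_iff_map_eq_zero ψc).2 fun y hy => ?_, fun z => ?_⟩
    · obtain ⟨x, rfl⟩ := hπ y
      rw [hψc, hψπ] at hy
      obtain ⟨c, hc⟩ := Ideal.mem_span_singleton'.1 ((hker _).1 hy)
      obtain ⟨c', rfl⟩ := (HomLift.cancelBC R S₁ Rh C).toAlgEquiv.surjective c
      have hx : x = c' * ((1 : Rh) ⊗ₜ[S₁] e) := by
        refine (HomLift.cancelBC R S₁ Rh C).toAlgEquiv.injective ?_
        rw [map_mul]
        show _ = _ * HomLift.cancelBC R S₁ Rh C ((1 : Rh) ⊗ₜ[S₁] e)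
        rw [hcan, he]
        exact hc.symm
      rw [hx, map_mul, show π ((1 : Rh) ⊗ₜ[S₁] e) = (1 : Rh) ⊗ₜ[S₁] mk e from rfl,
        show mk e = 0 from Ideal.Quotient.eq_zero_iff_mem.2 (Ideal.subset_span rfl), TensorProduct.tmul_zero]
      exact mul_zero (M₀ := Rh ⊗[S₁] G₁) _
    · obtain ⟨c, rfl⟩ := hsurj z
      obtain ⟨c', rfl⟩ := (HomLift.cancelBC R S₁ Rh C).toAlgEquiv.surjective c
      exact ⟨π c', by rw [hψc, hψπ]; rfl⟩
  obtain ⟨EG⟩ := HomLift.exists_split_equiv (R := Rh) (A := Rh ⊗[S₁] G₁) (BialgEquiv.ofBijective ψc hψb).symm EL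
  obtain ⟨EG₁⟩ := exists_split_transfer EG
  -- the cover of the first stage
  let U₁ := AdjoinRoot f₁
  haveI : Algebra.Etale S₁ U₁ := AzumayaLib.Et.etale_adjoinRoot hf₁m hf₁s
  haveI : Module.Finite S₁ U₁ := hf₁m.finite_adjoinRoot
  haveI : Module.Free S₁ U₁ := hf₁m.free_adjoinRoot
  let ρ : U₁ →ₐ[S₁] AdjoinRoot f := AdjoinRoot.liftAlgHom f₁ (Algebra.ofId S₁ _) (AdjoinRoot.root f) (by
    have : aeval (AdjoinRoot.root f) (f₁.map (algebraMap S₁ Rh)) = 0 := by
      rw [hf₁, AdjoinRoot.aeval_eq, AdjoinRoot.mk_self]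
    rwa [aeval_map_algebraMap, aeval_def] at this)
  haveI : Nontrivial U₁ := ρ.toRingHom.domain_nontrivial
  haveI : Module.FaithfullyFlat S₁ U₁ := inferInstance
  let β : AdjoinRoot f →ₐ[Rh] Rh ⊗[S₁] U₁ :=
    AdjoinRoot.liftAlgHom f (Algebra.ofId Rh _) ((1 : Rh) ⊗ₜ[S₁] AdjoinRoot.root f₁) (by
      have h0 : aeval ((1 : Rh) ⊗ₜ[S₁] AdjoinRoot.root f₁) (f₁.map (algebraMap S₁ Rh)) = 0 := by
        rw [aeval_map_algebraMap,
          show (1 : Rh) ⊗ₜ[S₁] AdjoinRoot.root f₁ =
            (Algebra.TensorProduct.includeRight : U₁ →ₐ[S₁] Rh ⊗[S₁] U₁) (AdjoinRoot.root f₁) from rfl,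
          aeval_algHom_apply, AdjoinRoot.aeval_eq, AdjoinRoot.mk_self, map_zero]
      rwa [hf₁, aeval_def] at h0)
  obtain ⟨E, -⟩ := exists_split_push EG₁ (β.restrictScalars S₁)
  -- the second stage
  obtain ⟨gens, hgens⟩ := hMfg'.1
  obtain ⟨gG, hgG⟩ := (Algebra.FiniteType.out : (⊤ : Subalgebra S₁ G₁).FG)
  choose sm hsm using fun m : M => exists_coeffs₂ (E.e m)
  choose sc hsc using fun t : Rh ⊗[S₁] U₁ => exists_coeffs t
  let cc : Finset (Rh ⊗[S₁] U₁) := gG.biUnion fun g =>
    (E.e.repr ((1 : Rh ⊗[S₁] U₁) ⊗ₜ[S₁] g)).support.image fun m => E.e.repr ((1 : Rh ⊗[S₁] U₁) ⊗ₜ[S₁] g) m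
  haveI : IsNoetherianRing S₁ := Algebra.FiniteType.isNoetherianRing R S₁
  haveI : Algebra.FiniteType S₁ (U₁ ⊗[S₁] G₁) :=
    Algebra.FiniteType.trans (S := U₁) inferInstance (Algebra.FiniteType.baseChange (A := G₁) U₁)
  haveI : Algebra.FiniteType S₁ (G₁ ⊗[S₁] G₁) :=
    Algebra.FiniteType.trans (S := G₁) inferInstance (Algebra.FiniteType.baseChange (A := G₁) G₁)
  haveI : Algebra.FiniteType S₁ (U₁ ⊗[S₁] (G₁ ⊗[S₁] G₁)) :=
    Algebra.FiniteType.trans (S := U₁) inferInstance (Algebra.FiniteType.baseChange (A := G₁ ⊗[S₁] G₁) U₁)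
  obtain ⟨S₂, _, _, _, _, _, _, _, hS₂et, hS₂et', hS₂mem, hS₂inj, hX₁, hX₂⟩ :=
    exists_stage p (S := S₁) (gens.biUnion sm ∪ cc.biUnion sc) (U₁ ⊗[S₁] G₁) (U₁ ⊗[S₁] (G₁ ⊗[S₁] G₁))
  haveI := hS₂et; haveI := hS₂et'
  let U := S₂ ⊗[S₁] U₁
  let ι : U →ₐ[S₁] Rh ⊗[S₁] U₁ := toHens S₁ Rh S₂ U₁
  have hι : Function.Injective ι :=
    Module.Flat.rTensor_preserves_injective_linearMap (M := U₁) (IsScalarTower.toAlgHom S₁ S₂ Rh).toLinearMap hS₂inj
  obtain ⟨EU⟩ := exists_split_descend' ι hι (injective_map_assoc _ hX₁) (injective_map_assoc _ hX₂) E (gens : Set M)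
    hgens (fun m hm => hsm m S₂ fun x hx =>
      hS₂mem x (Finset.mem_union_left _ (Finset.mem_biUnion.2 ⟨m, hm, hx⟩)))
    (gG : Set G₁) hgG fun g hg m => by
      by_cases hm : E.e.repr ((1 : Rh ⊗[S₁] U₁) ⊗ₜ[S₁] g) m = 0
      · rw [hm]; exact zero_mem _
      · exact hsc _ S₂ fun x hx => hS₂mem x (Finset.mem_union_right _ (Finset.mem_biUnion.2
          ⟨_, Finset.mem_biUnion.2 ⟨g, hg, Finset.mem_image.2 ⟨m, Finsupp.mem_support_iff.2 hm, rfl⟩⟩, hx⟩))
  -- the point
  let q := (IsLocalRing.maximalIdeal Rh).comap (IsScalarTower.toAlgHom R S₂ Rh).toRingHom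
  haveI : q.IsPrime := Ideal.comap_isPrime _ _
  have hq : p = q.comap (algebraMap R S₂) := by
    show p = Ideal.comap _ (Ideal.comap _ _)
    rw [Ideal.comap_comap]
    refine (HenselBranchLib.comap_maximalIdeal_hens p Rh).symm.trans
      (congrArg (fun g : R →+* Rh => (IsLocalRing.maximalIdeal Rh).comap g) ?_)
    exact IsScalarTower.algebraMap_eq R S₂ Rh
  have hbij := HenselBranchLib.bijective_residue p Rh S₂ (IsScalarTower.toAlgHom R S₂ Rh) q rfl hq
  have hzero : push ((IsScalarTower.toAlgHom R S₂ q.ResidueField).comp (IsScalarTower.toAlgHom R S₁ S₂)) e = 0 := by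
    let κ := IsLocalRing.ResidueField Rh
    let h₀ : q.ResidueField →+* κ := Ideal.ResidueField.lift q
      ((IsLocalRing.residue Rh).comp (IsScalarTower.toAlgHom R S₂ Rh).toRingHom)
      (fun u hu => Ideal.Quotient.eq_zero_iff_mem.2 (hu : algebraMap S₂ Rh u ∈ IsLocalRing.maximalIdeal Rh))
      (fun u hu => show IsUnit _ from isUnit_iff_ne_zero.2 fun h0 => hu ((IsLocalRing.residue_eq_zero_iff _).1 h0))
    have hh₀ : ∀ x : S₂, h₀ (algebraMap S₂ q.ResidueField x) = IsLocalRing.residue Rh (algebraMap S₂ Rh x) :=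
      fun x => Ideal.ResidueField.lift_algebraMap q _ _ _ x
    let γ : p.ResidueField →+* κ := IsLocalRing.ResidueField.map (algebraMap (Localization.AtPrime p) Rh)
    have hγ : h₀.comp (Ideal.ResidueField.map p q (algebraMap R S₂) hq) = γ :=
      Ideal.ResidueField.ringHom_ext (RingHom.ext fun r => by
        show h₀ (Ideal.ResidueField.map p q (algebraMap R S₂) hq (algebraMap R p.ResidueField r)) = _
        rw [Ideal.ResidueField.map_algebraMap, hh₀, ← IsScalarTower.algebraMap_apply R S₂ Rh]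
        rfl)
    have hb₀ : Function.Bijective h₀ := ⟨h₀.injective, fun x => by
      obtain ⟨y, rfl⟩ := (Groth.Agent.S0508.result (Localization.AtPrime p) Rh).2 x
      exact ⟨_, DFunLike.congr_fun hγ y⟩⟩
    let h : q.ResidueField →ₐ[R] κ :=
      { h₀ with
        commutes' := fun r => by
          show h₀ (algebraMap R q.ResidueField r) = IsLocalRing.residue Rh (algebraMap R Rh r)
          rw [IsScalarTower.algebraMap_apply R S₂ q.ResidueField, hh₀, ← IsScalarTower.algebraMap_apply R S₂ Rh] }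
    let hE := AlgEquiv.ofBijective h hb₀
    have hinj : Function.Injective (push (A := C) h) :=
      (Algebra.TensorProduct.congr hE (AlgEquiv.refl (R := R) (A₁ := C))).injective
    apply hinj
    rw [map_zero, ← push_comp',
      show h.comp ((IsScalarTower.toAlgHom R S₂ q.ResidueField).comp (IsScalarTower.toAlgHom R S₁ S₂)) =
        (IsScalarTower.toAlgHom R Rh κ).comp ι₁ from AlgHom.ext fun x => by
          show h₀ (algebraMap S₂ q.ResidueField (algebraMap S₁ S₂ x)) = IsLocalRing.residue Rh (algebraMap S₁ Rh x)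
          rw [hh₀, ← IsScalarTower.algebraMap_apply S₁ S₂ Rh],
      push_comp', he]
    have hle : (IsLocalRing.maximalIdeal Rh).map (algebraMap Rh (Rh ⊗[R] C)) ≤
        RingHom.ker (push (A := C) (IsScalarTower.toAlgHom R Rh κ)).toRingHom :=
      Ideal.map_le_iff_le_comap.2 fun x hx => by
        show push (A := C) (IsScalarTower.toAlgHom R Rh κ) (x ⊗ₜ 1) = 0
        rw [push, Algebra.TensorProduct.map_tmul,
          show (IsScalarTower.toAlgHom R Rh κ) x = 0 from (IsLocalRing.residue_eq_zero_iff x).2 hx,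
          TensorProduct.zero_tmul]
    exact hle hεm
  haveI : AddGroup.FG M := AddGroup.fg_iff_addMonoid_fg.2 hMfg'
  exact ⟨S₁, inferInstance, inferInstance, e, hee, hhopf, S₂, inferInstance, inferInstance, inferInstance,
    inferInstance, q, inferInstance, hq, hS₁et, hS₂et, hbij, hzero, U, inferInstance, inferInstance, inferInstance,
    inferInstance, inferInstance, inferInstance, inferInstance, M, inferInstance, inferInstance, ⟨EU⟩⟩

end Groth.Agent.MultNhd
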