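import Groth.Agent.RedRankLib.Fam
import Groth.Prelude.Def_ActBC

/-!
# Families of homomorphisms and base change of the parameter scheme
-/

set_option autoImplicit false
set_option backward.isDefEq.respectTransparency false
set_option linter.style.haveILetI false

noncomputable section

universe u

open CategoryTheory CategoryTheory.Limits MonoidalCategory CartesianMonoidalCategory AlgebraicGeometry
open scoped MonObj

namespace Groth.Agent.MultNhd

open RedRank (homOf proj)

variable {S : Scheme.{u}} {H G : Over S} [GrpObj H] [GrpObj G] {T T' : Over S}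

/-- The homomorphism of a family, followed by the projection to the target, is the family. -/
theorem homOf_left_fst (φ : H ⊗ T ⟶ G) : (homOf φ).left ≫ pullback.fst G.hom T.hom = φ.left := by
  have h1 : ∀ (Z : Over T.left) (g : (Over.map T.hom).obj Z ⟶ G),
      (HomRep.bcEquiv T.hom G Z g).left ≫ pullback.fst G.hom T.hom = g.left := fun Z g => by
    dsimp [HomRep.bcEquiv, Over.mapPullbackAdj]
    erw [Adjunction.homEquiv_unit]
    simp [Over.pullback]
    exact Category.id_comp _
  have h2 : ((HomRep.bcEquiv T.hom H (Red.bc T.hom H)).symm (𝟙 (Red.bc T.hom H))).left =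
      pullback.fst H.hom T.hom := by
    simp [HomRep.bcEquiv, Over.mapPullbackAdj, Adjunction.homEquiv, Over.pullback]
  rw [homOf, h1, Over.comp_left, Over.lift_left]
  simp only [h2]
  exact (congrArg (· ≫ φ.left) (pullback.hom_ext (by simp) (by simp [proj]))).trans (Category.id_comp _)

theorem isHomFamily_whisker {φ : H ⊗ T ⟶ G} (hφ : AutFam.IsHomFamily H G φ) (b : T' ⟶ T) :
    AutFam.IsHomFamily H G ((H ◁ b) ≫ φ) := by
  intro X g₁ g₂ t
  simp only [lift_whiskerLeft_assoc]
  exact hφ X g₁ g₂ (t ≫ b)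

/-- The homomorphism of a reparametrised family is the base change of the homomorphism of the family. -/
theorem map_homOf (φ : H ⊗ T ⟶ G) (b : T' ⟶ T) :
    (Over.pullback b.left).map (homOf φ) ≫ (ActBC.bcCompIso b.left T.hom G (Over.w b)).hom =
      (ActBC.bcCompIso b.left T.hom H (Over.w b)).hom ≫ homOf ((H ◁ b) ≫ φ) := by
  have h1 : (ActBC.bcCompIso b.left T.hom H (Over.w b)).hom.left ≫ (H ◁ b).left =
      pullback.fst (Red.bc T.hom H).hom b.left := by
    refine pullback.hom_ext ?_ ?_
    · simp [Over.whiskerLeft_left_fst]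
    · simp [Over.whiskerLeft_left_snd, pullback.condition]
  ext
  refine pullback.hom_ext ?_ ?_
  · rw [Over.comp_left, Category.assoc, ActBC.bcCompIso_hom_left_fst, ActBC.pullback_map_left_fst_assoc,
      homOf_left_fst, Over.comp_left, Category.assoc, homOf_left_fst, Over.comp_left, ← Category.assoc, h1]
  · exact (Over.w _).trans (Over.w _).symm

omit [GrpObj H] [GrpObj G] in
/-- The base change of a product to a point of the parameters. -/
theorem bcCompIso_inv_whisker (b : T' ⟶ T) :
    (ActBC.bcCompIso b.left T.hom H (Over.w b)).inv.left ≫ pullback.fst (Red.bc T.hom H).hom b.left =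
      (H ◁ b).left := by
  have h1 : (ActBC.bcCompIso b.left T.hom H (Over.w b)).hom.left ≫ (H ◁ b).left =
      pullback.fst (Red.bc T.hom H).hom b.left := by
    refine pullback.hom_ext ?_ ?_
    · simp [Over.whiskerLeft_left_fst]
    · simp [Over.whiskerLeft_left_snd, pullback.condition]
  rw [← h1, ← Category.assoc, ← Over.comp_left, Iso.inv_hom_id, Over.id_left]
  exact Category.id_comp _

/-- Compatibility of a lifted family with the original homomorphism on the point. -/
theorem lift_compat {P W W₁ : Scheme.{u}} (G : Over S) [GrpObj G] (f₁ : W₁ ⟶ S) (H₁ : Over W₁) [GrpObj H₁]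
    (q : W ⟶ W₁) (σ₁ : P ⟶ W₁) (b : Over.mk σ₁ ⟶ Over.mk q) (φ : H₁ ⊗ Over.mk q ⟶ Red.bc f₁ G) {κ : P ⟶ S}
    (hσ₁ : σ₁ ≫ f₁ = κ) {H₀ : Over P} (i₀ : H₀ ⟶ Red.bc κ G) (h : Red.bc σ₁ H₁ ≅ H₀)
    (hb : ((H₁ ◁ b) ≫ φ).left = (h.hom ≫ i₀ ≫ (ActBC.bcCompIso σ₁ f₁ G hσ₁).inv).left ≫
      pullback.fst (Red.bc f₁ G).hom σ₁) :
    (h.inv ≫ (ActBC.bcCompIso b.left q H₁ (Over.w b)).inv).left ≫
        ((Over.pullback b.left).map (homOf φ ≫ (ActBC.bcCompIso q f₁ G rfl).hom)).left ≫
          pullback.fst (Red.bc (q ≫ f₁) G).hom b.left ≫ pullback.fst G.hom (q ≫ f₁) =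
      i₀.left ≫ pullback.fst G.hom κ := by
  have h1 : (ActBC.bcCompIso b.left q H₁ (Over.w b)).inv.left ≫ pullback.fst (Red.bc q H₁).hom b.left =
      (H₁ ◁ b).left := bcCompIso_inv_whisker (T := Over.mk q) (T' := Over.mk σ₁) b
  have h5 : (ActBC.bcCompIso σ₁ f₁ G hσ₁).inv.left ≫ pullback.fst (Red.bc f₁ G).hom σ₁ ≫ pullback.fst G.hom f₁ =
      pullback.fst G.hom κ := by
    rw [← ActBC.bcCompIso_hom_left_fst σ₁ f₁ G hσ₁, ← Over.comp_left_assoc, Iso.inv_hom_id, Over.id_left,
      Category.id_comp]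
  have h2 : (homOf φ ≫ (ActBC.bcCompIso q f₁ G rfl).hom).left ≫ pullback.fst G.hom (q ≫ f₁) =
      φ.left ≫ pullback.fst G.hom f₁ := by
    rw [Over.comp_left, Category.assoc, ActBC.bcCompIso_hom_left_fst, ← homOf_left_fst φ, Category.assoc]
    rfl
  rw [ActBC.pullback_map_left_fst_assoc, h2, Over.comp_left, Category.assoc]
  dsimp only [Over.mk_hom]
  rw [reassoc_of% h1, ← Over.comp_left_assoc, hb]
  simp only [Over.comp_left, Category.assoc, h5]
  rw [← Over.comp_left_assoc, Iso.inv_hom_id, Over.id_left, Category.id_comp]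

end Groth.Agent.MultNhd
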