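import Groth.Agent.MultNhdLib.General
import Groth.Agent.MultClosedLib.Main
import Groth.Agent.FinMultLib.TorsionHopf
import Groth.Agent.FinMultLib.Isotriv

/-!
# Fibres of multiplicative type with torsion of constant order
-/

set_option autoImplicit false
set_option backward.isDefEq.respectTransparency false
set_option linter.style.haveILetI false
set_option synthInstance.maxHeartbeats 400000
set_option maxHeartbeats 1600000

noncomputable section

universe u

open scoped TensorProduct
open Groth.Agent.TorusField Groth.Agent.DiagHopf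

namespace Groth.Agent.MultNhd

/-- The dimension of a fibre does not depend on the field over the point. -/
theorem finrank_fibre {A : Type u} [CommRing A] (M : Type u) [AddCommGroup M] [Module A M] (q : Ideal A) [q.IsPrime]
    (L : Type u) [Field L] [Algebra A L] (h : RingHom.ker (algebraMap A L) = q) :
    Module.finrank L (L ⊗[A] M) = Module.finrank q.ResidueField (q.ResidueField ⊗[A] M) := by
  let g : q.ResidueField →+* L := Ideal.ResidueField.lift q (algebraMap A L) (fun x hx => h.symm ▸ hx)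
    (fun x hx => show IsUnit _ from isUnit_iff_ne_zero.2 fun h0 => hx (h ▸ h0))
  letI : Algebra q.ResidueField L := g.toAlgebra
  haveI : IsScalarTower A q.ResidueField L :=
    IsScalarTower.of_algebraMap_eq fun x => (Ideal.ResidueField.lift_algebraMap q _ _ _ x).symm
  rw [← (TensorProduct.AlgebraTensorModule.cancelBaseChange A q.ResidueField L L M).finrank_eq,
    Module.finrank_baseChange]

/-- The torsion quotient commutes with base change. -/
theorem exists_torsion_bc {R A : Type u} [CommRing R] [CommRing A] [HopfAlgebra R A] (K : Type u) [CommRing K]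
    [Algebra R K] (n : ℕ) :
    Nonempty (((K ⊗[R] A) ⧸ SGA3b.torsionIdeal K (K ⊗[R] A) n) ≃ₗ[K] K ⊗[R] (A ⧸ SGA3b.torsionIdeal R A n)) := by
  let J := SGA3b.torsionIdeal R A n
  let J' := SGA3b.torsionIdeal K (K ⊗[R] A) n
  let ι : A →ₐ[R] (K ⊗[R] A) ⧸ J' :=
    (Ideal.Quotient.mkₐ R J').comp Algebra.TensorProduct.includeRight
  have hle : J ≤ RingHom.ker ι.toRingHom := by
    show SGA3b.torsionIdeal R A n ≤ _
    rw [SGA3b.torsionIdeal, Ideal.map_le_iff_le_comap]
    intro a ha
    show Ideal.Quotient.mk J' ((1 : K) ⊗ₜ[R] SGA3b.powConv R A n a) = 0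
    rw [Ideal.Quotient.eq_zero_iff_mem, ← HomLift.includeRight_powConv]
    refine Ideal.mem_map_of_mem _ ?_
    show Coalgebra.counit (R := K) ((1 : K) ⊗ₜ[R] a) = 0
    rw [TensorProduct.counit_tmul, show Coalgebra.counit (R := R) a = 0 from ha, zero_smul]
  let g : K ⊗[R] (A ⧸ J) →ₐ[K] (K ⊗[R] A) ⧸ J' :=
    Algebra.TensorProduct.lift (Algebra.ofId K _) (Ideal.Quotient.liftₐ J ι fun x hx => hle hx)
      fun _ _ => Commute.all _ _
  let h : K ⊗[R] A →ₐ[K] K ⊗[R] (A ⧸ J) := quotExt K J
  have hid : h.comp (SGA3b.powConv K (K ⊗[R] A) n) =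
      (Algebra.ofId K _).comp (Bialgebra.counitAlgHom K (K ⊗[R] A)) := by
    refine Algebra.TensorProduct.ext (Subsingleton.elim _ _) (AlgHom.ext fun a => ?_)
    show h (SGA3b.powConv K (K ⊗[R] A) n ((1 : K) ⊗ₜ a)) =
      algebraMap K _ (Coalgebra.counit (R := K) ((1 : K) ⊗ₜ[R] a))
    rw [HomLift.includeRight_powConv, TensorProduct.counit_tmul]
    show (1 : K) ⊗ₜ[R] Ideal.Quotient.mk J (SGA3b.powConv R A n a) = _
    have h0 : Ideal.Quotient.mk J (SGA3b.powConv R A n (a - algebraMap R A (Coalgebra.counit a))) = 0 := by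
      rw [Ideal.Quotient.eq_zero_iff_mem]
      exact Ideal.mem_map_of_mem _ (by simp [RingHom.mem_ker])
    rw [map_sub, map_sub, sub_eq_zero, AlgHom.commutes, Ideal.Quotient.mk_algebraMap] at h0
    rw [h0, Algebra.algebraMap_eq_smul_one, Algebra.algebraMap_eq_smul_one, TensorProduct.tmul_smul]
    simp [← Algebra.TensorProduct.one_def]
  have hle' : J' ≤ RingHom.ker h.toRingHom := by
    show SGA3b.torsionIdeal K (K ⊗[R] A) n ≤ _
    rw [SGA3b.torsionIdeal, Ideal.map_le_iff_le_comap]
    intro a ha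
    show h (SGA3b.powConv K (K ⊗[R] A) n a) = 0
    rw [← AlgHom.comp_apply, hid, AlgHom.comp_apply, show Bialgebra.counitAlgHom K (K ⊗[R] A) a = 0 from ha, map_zero]
  let h' : (K ⊗[R] A) ⧸ J' →ₐ[K] K ⊗[R] (A ⧸ J) := Ideal.Quotient.liftₐ J' h fun x hx => hle' hx
  have e1 : h'.comp g = AlgHom.id K _ := by
    refine Algebra.TensorProduct.ext' fun c x => ?_
    obtain ⟨a, rfl⟩ := Ideal.Quotient.mk_surjective x
    show h' (g (c ⊗ₜ Ideal.Quotient.mk J a)) = c ⊗ₜ Ideal.Quotient.mk J a
    rw [Algebra.TensorProduct.lift_tmul, map_mul, Algebra.ofId_apply, AlgHom.commutes]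
    show algebraMap K _ c * ((1 : K) ⊗ₜ[R] Ideal.Quotient.mk J a) = _
    rw [Algebra.TensorProduct.algebraMap_apply, Algebra.TensorProduct.tmul_mul_tmul]
    simp
  have e2 : g.comp h' = AlgHom.id K _ := by
    refine Ideal.Quotient.algHom_ext K (Algebra.TensorProduct.ext (Subsingleton.elim _ _) (AlgHom.ext fun a => ?_))
    show g (h ((1 : K) ⊗ₜ[R] a)) = Ideal.Quotient.mk J' ((1 : K) ⊗ₜ[R] a)
    rw [show h ((1 : K) ⊗ₜ[R] a) = (1 : K) ⊗ₜ[R] Ideal.Quotient.mk J a from rfl, Algebra.TensorProduct.lift_tmul,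
      map_one, one_mul]
    rfl
  exact ⟨(AlgEquiv.ofAlgHom h' g e1 e2).toLinearEquiv⟩

/-- A bialgebra quotient base changes to a quotient by the image of the idempotent. -/
theorem exists_push_quotient {A S' C F : Type u} [CommRing A] [CommRing S'] [Algebra A S'] [CommRing C]
    [HopfAlgebra A C] [CommRing F] [HopfAlgebra S' F] (φ : S' ⊗[A] C →ₐc[S'] F) (hφ : Function.Surjective φ)
    (ε : S' ⊗[A] C) (hker : ∀ x, φ x = 0 ↔ x ∈ Ideal.span {ε}) (L : Type u) [CommRing L] [Algebra A L]
    [Algebra S' L] [IsScalarTower A S' L] :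
    ∃ ψ : L ⊗[A] C →ₐc[L] L ⊗[S'] F, Function.Surjective ψ ∧
      ∀ x, ψ x = 0 ↔ x ∈ Ideal.span {push (IsScalarTower.toAlgHom A S' L) ε} := by
  let c := HomLift.cancelBC A S' L C
  let π : L ⊗[S'] (S' ⊗[A] C) →ₐc[L] L ⊗[S'] F := Bialgebra.TensorProduct.map (BialgHom.id L L) φ
  have hc : ∀ x : S' ⊗[A] C, c ((1 : L) ⊗ₜ[S'] x) = push (IsScalarTower.toAlgHom A S' L) x := fun x => by
    induction x using TensorProduct.induction_on with
    | zero => simp
    | add p q hp hq => simp only [TensorProduct.tmul_add, map_add, hp, hq]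
    | tmul s y => simp [c, HomLift.cancelBC, push, Algebra.smul_def]
  have hπs : Function.Surjective π := fun y => by
    induction y using TensorProduct.induction_on with
    | zero => exact ⟨0, map_zero π⟩
    | add p q hp hq =>
      obtain ⟨x, rfl⟩ := hp
      obtain ⟨x', rfl⟩ := hq
      exact ⟨x + x', map_add π x x'⟩
    | tmul r g =>
      obtain ⟨x, rfl⟩ := hφ g
      exact ⟨r ⊗ₜ x, rfl⟩
  have h1 : RingHom.ker (Algebra.TensorProduct.map (AlgHom.id S' L) (φ : S' ⊗[A] C →ₐ[S'] F)) =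
      Ideal.span {(1 : L) ⊗ₜ[S'] ε} := by
    rw [Algebra.TensorProduct.lTensor_ker _ hφ,
      show RingHom.ker (φ : S' ⊗[A] C →ₐ[S'] F) = Ideal.span {ε} from Ideal.ext hker, Ideal.map_span,
      Set.image_singleton]
    rfl
  refine ⟨π.comp c.symm.toBialgHom, hπs.comp c.toAlgEquiv.symm.surjective, fun x => ?_⟩
  obtain ⟨y, rfl⟩ := c.toAlgEquiv.surjective x
  rw [show (π.comp c.symm.toBialgHom) (c.toAlgEquiv y) = π y from congrArg π (c.toAlgEquiv.symm_apply_apply y)]
  have hk : π y = 0 ↔ y ∈ Ideal.span {(1 : L) ⊗ₜ[S'] ε} := by rw [← h1]; exact Iff.rfl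
  rw [hk, ← hc]
  refine ⟨fun h => ?_, fun h => ?_⟩
  · obtain ⟨d, rfl⟩ := Ideal.mem_span_singleton'.1 h
    exact Ideal.mem_span_singleton'.2 ⟨c.toAlgEquiv d, (map_mul c.toAlgEquiv d _).symm⟩
  · obtain ⟨d, hd⟩ := Ideal.mem_span_singleton'.1 h
    exact Ideal.mem_span_singleton'.2 ⟨c.toAlgEquiv.symm d, c.toAlgEquiv.injective (by
      rw [map_mul, AlgEquiv.apply_symm_apply]
      exact hd)⟩

/-- The torsion quotient of a surjection of Hopf algebras over a field is smaller. -/
theorem finrank_torsion_le {L C F : Type u} [Field L] [CommRing C] [HopfAlgebra L C] [CommRing F] [HopfAlgebra L F]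
    (φ : C →ₐc[L] F) (hφ : Function.Surjective φ) (n : ℕ) [Module.Finite L (C ⧸ SGA3b.torsionIdeal L C n)] :
    Module.finrank L (F ⧸ SGA3b.torsionIdeal L F n) ≤ Module.finrank L (C ⧸ SGA3b.torsionIdeal L C n) ∧
      (Module.finrank L (C ⧸ SGA3b.torsionIdeal L C n) ≤ Module.finrank L (F ⧸ SGA3b.torsionIdeal L F n) →
        ∀ x, φ x = 0 → x ∈ SGA3b.torsionIdeal L C n) := by
  let q : (C ⧸ SGA3b.torsionIdeal L C n) →ₐ[L] (F ⧸ SGA3b.torsionIdeal L F n) :=
    Ideal.quotientMapₐ _ (φ : C →ₐ[L] F) (Ideal.map_le_iff_le_comap.1 (MultClosed.torsionIdeal_map_le φ n))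
  have hq : Function.Surjective q := fun z => by
    obtain ⟨a, rfl⟩ := Ideal.Quotient.mk_surjective z
    obtain ⟨d, rfl⟩ := hφ a
    exact ⟨Ideal.Quotient.mk _ d, rfl⟩
  haveI := MultClosed.finite_torsion_of_surjective φ hφ n
  have h1 := LinearMap.finrank_le_finrank_of_surjective (f := q.toLinearMap) hq
  refine ⟨h1, fun h x hx => ?_⟩
  have hinj : Function.Injective q.toLinearMap :=
    (LinearMap.injective_iff_surjective_of_finrank_eq_finrank (le_antisymm h h1)).2 hq
  refine Ideal.Quotient.eq_zero_iff_mem.1 (hinj ?_)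
  rw [map_zero]
  show q (Ideal.Quotient.mk _ x) = 0
  show Ideal.Quotient.mk _ (φ x) = 0
  rw [hx, map_zero]

/-- With fibres of multiplicative type and torsion of constant order along generizations, the group is split by
an étale neighbourhood. -/
theorem exists_split_nhd {A C : Type u} [CommRing A] [CommRing C] [HopfAlgebra A C]
    [Algebra.FinitePresentation A C] [Module.Flat A C] (p : Ideal A) [p.IsPrime]
    (hfib : ∀ (q : Ideal A) [q.IsPrime], SGA3b.IsMultType q.ResidueField (q.ResidueField ⊗[A] C))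
    (hdim : ∀ (n : ℕ), 0 < n → ∀ (q : Ideal A) [q.IsPrime], q ≤ p →
      Module.finrank q.ResidueField (q.ResidueField ⊗[A] (C ⧸ SGA3b.torsionIdeal A C n)) =
        Module.finrank p.ResidueField (p.ResidueField ⊗[A] (C ⧸ SGA3b.torsionIdeal A C n))) :
    ∃ (T : Type u) (_ : CommRing T) (_ : Algebra A T), Algebra.Etale A T ∧
      (∃ u : PrimeSpectrum T, u.asIdeal.comap (algebraMap A T) = p) ∧
      ∃ (M : Type u) (_ : AddCommGroup M), AddGroup.FG M ∧ Nonempty (Split A C M T) := by
  classical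
  obtain ⟨S', _, _, θ, F, _, _, φ, ε, hEt, hφs, hε, hker, hθ, U, _, _, hUet, hUfin, hUff, M, _, hM, ⟨E⟩⟩ :=
    exists_nhd_ring p (fun q _ _ => inferInstance) (hfib p)
  haveI := hEt; haveI := hUet; haveI := hUfin; haveI := hUff
  haveI : Algebra.FiniteType S' (S' ⊗[A] C) := Algebra.FiniteType.baseChange (A := C) S'
  haveI : Algebra.FiniteType S' F := Algebra.FiniteType.of_surjective (φ : S' ⊗[A] C →ₐ[S'] F) hφs
  have hFm : SGA3b.IsMultType S' F := isMultType_of_split (A := F) (N := Multiplicative M) (S := U) E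
  haveI : Coalgebra.IsCocomm S' F := FinMult.isCocomm_of_isMultType hFm
  letI : Algebra A U := ((algebraMap S' U).comp (algebraMap A S')).toAlgebra
  haveI : IsScalarTower A S' U := IsScalarTower.of_algebraMap_eq fun _ => rfl
  -- the order of the torsion of the subgroup
  have hcard : ∀ (n : ℕ), 0 < n → ∀ (L : Type u) [Field L] [Algebra S' L] (jU : U →ₐ[S'] L),
      Module.finrank L (L ⊗[S'] (F ⧸ SGA3b.torsionIdeal S' F n)) =
        Nat.card (M ⧸ (nsmulAddMonoidHom n : M →+ M).range) := by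
    intro n _ L _ _ jU
    haveI : (SGA3b.torsionIdeal S' F n).IsHopfIdeal S' := FinMult.isHopfIdeal_torsionIdeal n
    obtain ⟨EL, -⟩ := exists_split_push E jU
    obtain ⟨E', -⟩ := exists_split_torsion EL n (SGA3b.torsionIdeal S' F n) rfl
    exact Module.finrank_eq_nat_card_basis E'.e
  -- the fibres
  have hfibre : ∀ (L : Type u) [Field L] [Algebra A L] [Algebra S' L] [IsScalarTower A S' L] (jU : U →ₐ[S'] L)
      (q : Ideal A) [q.IsPrime], RingHom.ker (algebraMap A L) = q →
      ∀ n, 0 < n → ∃ ψ : L ⊗[A] C →ₐc[L] L ⊗[S'] F, Function.Surjective ψ ∧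
        (∀ x, ψ x = 0 ↔ x ∈ Ideal.span {push (IsScalarTower.toAlgHom A S' L) ε}) ∧
        Module.Finite L ((L ⊗[A] C) ⧸ SGA3b.torsionIdeal L (L ⊗[A] C) n) ∧
        Coalgebra.IsCocomm L (L ⊗[A] C) ∧
        Module.finrank L ((L ⊗[A] C) ⧸ SGA3b.torsionIdeal L (L ⊗[A] C) n) =
          Module.finrank q.ResidueField (q.ResidueField ⊗[A] (C ⧸ SGA3b.torsionIdeal A C n)) ∧
        Module.finrank L ((L ⊗[S'] F) ⧸ SGA3b.torsionIdeal L (L ⊗[S'] F) n) =
          Nat.card (M ⧸ (nsmulAddMonoidHom n : M →+ M).range) := by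
    intro L _ _ _ _ jU q _ hq n hn
    obtain ⟨ψ, hψ, hψk⟩ := exists_push_quotient φ hφs ε hker L
    let g : q.ResidueField →+* L := Ideal.ResidueField.lift q (algebraMap A L) (fun x hx => hq.symm ▸ hx)
      (fun x hx => show IsUnit _ from isUnit_iff_ne_zero.2 fun h0 => hx (hq ▸ h0))
    letI : Algebra q.ResidueField L := g.toAlgebra
    haveI : IsScalarTower A q.ResidueField L :=
      IsScalarTower.of_algebraMap_eq fun x => (Ideal.ResidueField.lift_algebraMap q _ _ _ x).symm
    have hm : SGA3b.IsMultType L (L ⊗[A] C) := S5299.isMultType_bialgEquiv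
      (HomLift.cancelBC A q.ResidueField L C) (QIso.isMultType_baseChange (hfib q) L)
    haveI := FinMult.isCocomm_of_isMultType hm
    haveI : Algebra.FiniteType L (L ⊗[A] C) := Algebra.FiniteType.baseChange (A := C) L
    haveI := FinMult.isHopfIdeal_torsionIdeal (k := L) (A := L ⊗[A] C) n
    obtain ⟨e₁⟩ := exists_torsion_bc (R := A) (A := C) L n
    obtain ⟨e₂⟩ := exists_torsion_bc (R := S') (A := F) L n
    exact ⟨ψ, hψ, hψk, (isMultType_torsion hm hn _ rfl).2, inferInstance,
      e₁.finrank_eq.trans (finrank_fibre _ q L hq), e₂.finrank_eq.trans (hcard n hn L jU)⟩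
  -- the order at the point
  have hp : ∀ n, 0 < n → Module.finrank p.ResidueField (p.ResidueField ⊗[A] (C ⧸ SGA3b.torsionIdeal A C n)) =
      Nat.card (M ⧸ (nsmulAddMonoidHom n : M →+ M).range) := by
    intro n hn
    letI : Algebra S' p.ResidueField := θ.toRingHom.toAlgebra
    haveI : IsScalarTower A S' p.ResidueField := IsScalarTower.of_algebraMap_eq fun x => (θ.commutes x).symm
    haveI : Nontrivial (p.ResidueField ⊗[S'] U) := Module.FaithfullyFlat.rTensor_nontrivial S' U p.ResidueField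
    obtain ⟨m, hm⟩ := Ideal.exists_maximal (p.ResidueField ⊗[S'] U)
    letI := Ideal.Quotient.field m
    let L := (p.ResidueField ⊗[S'] U) ⧸ m
    let jU : U →ₐ[S'] L := (Ideal.Quotient.mkₐ S' m).comp Algebra.TensorProduct.includeRight
    let g : p.ResidueField →+* L :=
      (Ideal.Quotient.mk m).comp (Algebra.TensorProduct.includeLeft : p.ResidueField →ₐ[S'] _).toRingHom
    haveI : IsScalarTower A S' L := inferInstance
    have hq : RingHom.ker (algebraMap A L) = p := by
      show RingHom.ker (g.comp (algebraMap A p.ResidueField)) = p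
      rw [RingHom.ker_comp_of_injective _ g.injective, Ideal.ker_algebraMap_residueField]
    obtain ⟨ψ, hψ, hψk, hfin, -, hC, hF⟩ := hfibre L jU p hq n hn
    let gA : p.ResidueField →ₐ[A] L := { g with commutes' := fun _ => rfl }
    have h0 : push (IsScalarTower.toAlgHom A S' L) ε = 0 := by
      have hcomp : IsScalarTower.toAlgHom A S' L = gA.comp θ := AlgHom.ext fun x =>
        ((Ideal.Quotient.mkₐ S' m).comp Algebra.TensorProduct.includeLeft).commutes x |>.symm
      rw [hcomp, push_comp']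
      show push gA (Algebra.TensorProduct.map θ (AlgHom.id A C) ε) = 0
      rw [hθ, map_zero]
    have hψb : Function.Bijective ψ := ⟨(injective_iff_map_eq_zero ψ).2 fun x hx => by
      have h1 := (hψk x).1 hx
      rw [h0, Ideal.span_singleton_eq_bot.2 rfl] at h1
      exact h1, hψ⟩
    haveI := hfin
    haveI := MultClosed.finite_torsion_of_surjective ψ hψ n
    have h1 := (finrank_torsion_le ψ hψ n).1
    have h2 := (finrank_torsion_le ((BialgEquiv.ofBijective ψ hψb).symm.toBialgHom)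
      (BialgEquiv.ofBijective ψ hψb).symm.toAlgEquiv.surjective n).1
    rw [← hC, ← hF]
    exact le_antisymm h2 h1
  -- shrinking
  let q₀ := RingHom.ker θ
  haveI : q₀.IsPrime := RingHom.ker_isPrime _
  obtain ⟨a, ha, haε⟩ : ∃ a ∉ q₀, algebraMap S' (S' ⊗[A] C) a * ε = 0 := by
    by_contra hne
    push_neg at hne
    let W : Submonoid (S' ⊗[A] C) :=
      (Submonoid.map (algebraMap S' (S' ⊗[A] C)) q₀.primeCompl) ⊔ Submonoid.powers ε
    have h0 : (0 : S' ⊗[A] C) ∉ W := by
      intro h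
      obtain ⟨_, ⟨b, hb, rfl⟩, _, ⟨k, rfl⟩, hbk⟩ := Submonoid.mem_sup.1 h
      refine hne b hb ?_
      simp only at hbk
      rcases k with - | k
      · rw [pow_zero, mul_one] at hbk
        rw [hbk, zero_mul]
      · rwa [hε.pow_succ_eq] at hbk
    obtain ⟨P, hP, -, hPd⟩ := Ideal.exists_le_prime_disjoint (⊥ : Ideal (S' ⊗[A] C)) W
      (Set.disjoint_left.2 fun x hx hxW => h0 (by rwa [show x = 0 from hx] at hxW))
    haveI := hP
    let κ := P.ResidueField
    haveI : Nontrivial (κ ⊗[S'] U) := Module.FaithfullyFlat.rTensor_nontrivial S' U κ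
    obtain ⟨m, hm⟩ := Ideal.exists_maximal (κ ⊗[S'] U)
    letI := Ideal.Quotient.field m
    let L := (κ ⊗[S'] U) ⧸ m
    let jU : U →ₐ[S'] L := (Ideal.Quotient.mkₐ S' m).comp Algebra.TensorProduct.includeRight
    let g : κ →ₐ[S'] L := (Ideal.Quotient.mkₐ S' m).comp Algebra.TensorProduct.includeLeft
    haveI : IsScalarTower A S' L := inferInstance
    haveI : (RingHom.ker (algebraMap A L)).IsPrime := RingHom.ker_isPrime _
    have hle : RingHom.ker (algebraMap A L) ≤ p := by
      intro x hx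
      by_contra hxp
      have h1 : algebraMap A S' x ∈ q₀.primeCompl := fun h => hxp (Ideal.algebraMap_residueField_eq_zero.1 (by
        rw [← θ.commutes x]; exact h))
      have h2 : algebraMap S' (S' ⊗[A] C) (algebraMap A S' x) ∉ P := fun h =>
        Set.disjoint_left.1 hPd h (Submonoid.mem_sup_left ⟨_, h1, rfl⟩)
      refine h2 (Ideal.algebraMap_residueField_eq_zero.1 (g.toRingHom.injective ?_))
      rw [map_zero, ← IsScalarTower.algebraMap_apply]
      exact (g.commutes _).trans hx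
    have hL : push (IsScalarTower.toAlgHom A S' L) ε = 0 := by
      obtain ⟨ψ₁, hψ₁, hψk₁, -, hco, -, -⟩ := hfibre L jU (RingHom.ker (algebraMap A L)) rfl 1 one_pos
      haveI := hco
      haveI : Algebra.FiniteType L (L ⊗[A] C) := Algebra.FiniteType.baseChange (A := C) L
      obtain ⟨EL, -⟩ := exists_split_push E jU
      obtain ⟨EL'⟩ := exists_split_transfer' (R' := L) EL
      refine HomLift.eq_zero_of_torsion ψ₁ hψ₁ (hε.map (push (IsScalarTower.toAlgHom A S' L))) hψk₁
        (T := L) (N := Multiplicative M) EL' fun n hn => ?_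
      obtain ⟨ψ, hψ, hψk, hfin, -, hC, hF⟩ := hfibre L jU (RingHom.ker (algebraMap A L)) rfl n hn
      haveI := hfin
      refine (finrank_torsion_le ψ hψ n).2 ?_ _ ((hψk _).2 (Ideal.subset_span rfl))
      rw [hC, hF, hdim n hn _ hle, hp n hn]
    have hεP : ε ∉ P := fun h => Set.disjoint_left.1 hPd h (Submonoid.mem_sup_right (Submonoid.mem_powers ε))
    let lam : L ⊗[A] C →ₐ[A] L := Algebra.TensorProduct.lift (AlgHom.id A L)
      (((g.restrictScalars A).comp (IsScalarTower.toAlgHom A (S' ⊗[A] C) κ)).comp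
        Algebra.TensorProduct.includeRight) fun _ _ => Commute.all _ _
    have hlam : lam.comp (push (IsScalarTower.toAlgHom A S' L)) =
        (g.restrictScalars A).comp (IsScalarTower.toAlgHom A (S' ⊗[A] C) κ) := by
      refine Algebra.TensorProduct.ext' fun s x => ?_
      show lam (algebraMap S' L s ⊗ₜ x) = g (algebraMap (S' ⊗[A] C) κ (s ⊗ₜ x))
      rw [Algebra.TensorProduct.lift_tmul]
      show algebraMap S' L s * g (algebraMap (S' ⊗[A] C) κ ((1 : S') ⊗ₜ x)) = _
      rw [← g.commutes s, ← map_mul, IsScalarTower.algebraMap_apply S' (S' ⊗[A] C) κ, ← map_mul,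
        show algebraMap S' (S' ⊗[A] C) s = s ⊗ₜ[A] (1 : C) from rfl, Algebra.TensorProduct.tmul_mul_tmul, mul_one,
        one_mul]
    have h3 := DFunLike.congr_fun hlam ε
    rw [AlgHom.comp_apply, hL, map_zero] at h3
    exact hεP (Ideal.algebraMap_residueField_eq_zero.1 (g.toRingHom.injective (h3.symm.trans
      (map_zero g).symm)))
  let Sa := Localization.Away a
  haveI : Algebra.Etale S' Sa := Algebra.Etale.of_isLocalizationAway a
  haveI : Algebra.Etale A Sa := Algebra.Etale.comp A S' Sa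
  obtain ⟨ψ, hψ, hψk⟩ := exists_push_quotient φ hφs ε hker Sa
  have h0 : push (IsScalarTower.toAlgHom A S' Sa) ε = 0 := by
    have h1 := congrArg (push (IsScalarTower.toAlgHom A S' Sa)) haε
    rw [map_mul, map_zero, show push (IsScalarTower.toAlgHom A S' Sa) (algebraMap S' (S' ⊗[A] C) a) =
      algebraMap Sa (Sa ⊗[A] C) (algebraMap S' Sa a) by simp [push, Algebra.TensorProduct.algebraMap_apply]] at h1
    exact (((IsLocalization.Away.algebraMap_isUnit a).map (algebraMap Sa (Sa ⊗[A] C))).mul_right_eq_zero).1 h1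
  have hψb : Function.Bijective ψ := ⟨(injective_iff_map_eq_zero ψ).2 fun x hx => by
    have h1 := (hψk x).1 hx
    rw [h0, Ideal.span_singleton_eq_bot.2 rfl] at h1
    exact h1, hψ⟩
  let T := Sa ⊗[S'] U
  obtain ⟨E₁, -⟩ := exists_split_push E (Algebra.TensorProduct.includeRight : U →ₐ[S'] T)
  obtain ⟨E₂⟩ := exists_split_transfer' (R' := Sa) E₁
  obtain ⟨E₃⟩ := HomLift.exists_split_equiv (R := Sa) (A := Sa ⊗[A] C) (BialgEquiv.ofBijective ψ hψb).symm E₂
  obtain ⟨E₄⟩ := exists_split_transfer E₃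
  obtain ⟨v, hv⟩ := PrimeSpectrum.comap_surjective_of_faithfullyFlat (A := Sa) (B := T)
    (PrimeSpectrum.comap (IsLocalization.Away.lift a (g := θ.toRingHom)
      (isUnit_iff_ne_zero.2 fun h => ha h) : Sa →+* p.ResidueField) ⊥)
  refine ⟨T, inferInstance, inferInstance, Algebra.Etale.comp A Sa T, ⟨v, ?_⟩, M, inferInstance, hM, ⟨E₄⟩⟩
  have h1 := congrArg (fun I => Ideal.comap (algebraMap A Sa) I) (congrArg PrimeSpectrum.asIdeal hv)
  simp only [PrimeSpectrum.comap_asIdeal, Ideal.comap_comap, ← IsScalarTower.algebraMap_eq] at h1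
  refine h1.trans ?_
  rw [IsScalarTower.algebraMap_eq A S' Sa, ← RingHom.comp_assoc, IsLocalization.Away.lift_comp]
  show Ideal.comap (θ.toRingHom.comp (algebraMap A S')) ⊥ = p
  rw [show θ.toRingHom.comp (algebraMap A S') = algebraMap A p.ResidueField from θ.comp_algebraMap,
    ← RingHom.ker_eq_comap_bot, Ideal.ker_algebraMap_residueField]

end Groth.Agent.MultNhd
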