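import Groth.Agent.MultNhdLib.KerPow
import Groth.Agent.MultNhdLib.Torsion

/-!
# Fibres of a chart at field points
-/

set_option autoImplicit false
set_option backward.isDefEq.respectTransparency false
set_option backward.isDefEq.respectTransparency.types false
set_option linter.style.haveILetI false
set_option synthInstance.maxHeartbeats 200000
set_option maxHeartbeats 1600000

noncomputable section

universe u

open CategoryTheory CategoryTheory.Limits MonoidalCategory CartesianMonoidalCategory AlgebraicGeometry CoactBr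
open scoped MonObj TensorProduct

namespace Groth.Agent.MultNhd

open Groth.Agent.DiagRep (baseHom)

attribute [local instance] CoactBr.braidedAlgSpecOf

/-- A field point of the image of an affine chart comes from the chart. -/
theorem exists_algebra_point {S : Scheme.{u}} {A : Type u} [CommRing A] (i : Spec (CommRingCat.of A) ⟶ S)
    [IsOpenImmersion i] (q : Ideal A) [q.IsPrime] {K : Type u} [Field K] (g : Spec (CommRingCat.of K) ⟶ S)
    (hg : ∀ x, g.base x = i.base (⟨q, ‹_›⟩ : PrimeSpectrum A)) :
    ∃ ψ : A →+* K, RingHom.ker ψ = q ∧ Spec.map (CommRingCat.ofHom ψ) ≫ i = g := by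
  have hr : Set.range g.base ⊆ Set.range i.base := by
    rintro _ ⟨x, rfl⟩
    exact ⟨_, (hg x).symm⟩
  obtain ⟨φ, hφ⟩ := Spec.map_surjective (IsOpenImmersion.lift i g hr)
  have h1 : Spec.map (CommRingCat.ofHom φ.hom) ≫ i = g := by
    rw [CommRingCat.ofHom_hom, hφ, IsOpenImmersion.lift_fac]
  refine ⟨φ.hom, ?_, h1⟩
  have h2 := hg (⊥ : PrimeSpectrum K)
  rw [← h1] at h2
  have h3 := congrArg PrimeSpectrum.asIdeal (i.isOpenEmbedding.injective h2)
  rw [RingHom.ker_eq_comap_bot]
  exact h3

variable {S : Scheme.{u}} (H : Over S) [GrpObj H] {A C : Type u} [CommRing A] [CommRing C] [HopfAlgebra A C]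
  (i : Spec (CommRingCat.of A) ⟶ S) [IsOpenImmersion i] (w : sp A C ≅ Red.bc i H) [IsMonHom w.hom]

include w in
/-- Multiplicative type of a fibre from a field point. -/
theorem isMultType_fibre (q : Ideal A) [q.IsPrime] {L : Type u} [Field L] (g : Spec (CommRingCat.of L) ⟶ S)
    (hg : ∀ x, g.base x = i.base (⟨q, ‹_›⟩ : PrimeSpectrum A)) (h : SGA3x.IsMultTypeFT (Red.bc g H)) :
    SGA3b.IsMultType q.ResidueField (q.ResidueField ⊗[A] C) := by
  obtain ⟨ψ, hker, hψ⟩ := exists_algebra_point i q g hg
  letI : Algebra A L := ψ.toAlgebra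
  have hm : SGA3b.IsMultType L (L ⊗[A] C) := isMultType_of_section H i w (𝟙 _) g (by
    rw [Category.id_comp]; exact hψ) h
  let e : q.ResidueField →+* L := Ideal.ResidueField.lift q ψ (fun x hx => hker.symm ▸ hx)
    (fun x hx => show IsUnit _ from isUnit_iff_ne_zero.2 fun h0 => hx (hker ▸ h0))
  letI : Algebra q.ResidueField L := e.toAlgebra
  haveI : IsScalarTower A q.ResidueField L :=
    IsScalarTower.of_algebraMap_eq fun x => (Ideal.ResidueField.lift_algebraMap q _ _ _ x).symm
  exact isMultType_of_field_ext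
    (S5299.isMultType_bialgEquiv (HomLift.cancelBC A q.ResidueField L C).symm hm)

include w in
/-- The order of the torsion of a fibre. -/
theorem finrank_fibre_kerPow [Algebra.FiniteType A C] (q : Ideal A) [q.IsPrime]
    (hq : SGA3b.IsMultType q.ResidueField (q.ResidueField ⊗[A] C)) (n : ℕ) (hn : 0 < n)
    (x : ↥(Spec (S.residueField (i.base (⟨q, ‹_›⟩ : PrimeSpectrum A))))) :
    ((pullback.snd η[H].left (𝟙 H ^ n : H ⟶ H).left ≫ H.hom).fiberToSpecResidueField
        (i.base (⟨q, ‹_›⟩ : PrimeSpectrum A))).finrank x =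
      Module.finrank q.ResidueField (q.ResidueField ⊗[A] (C ⧸ SGA3b.torsionIdeal A C n)) := by
  let s := i.base (⟨q, ‹_›⟩ : PrimeSpectrum A)
  let K : Type u := S.residueField s
  obtain ⟨ψ, hker, hψ⟩ := exists_algebra_point i q (K := K) (S.fromSpecResidueField s)
    (fun y => Scheme.fromSpecResidueField_apply s y)
  letI : Algebra A K := ψ.toAlgebra
  let e : q.ResidueField →+* K := Ideal.ResidueField.lift q ψ (fun x hx => hker.symm ▸ hx)
    (fun x hx => show IsUnit _ from isUnit_iff_ne_zero.2 fun h0 => hx (hker ▸ h0))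
  letI : Algebra q.ResidueField K := e.toAlgebra
  haveI : IsScalarTower A q.ResidueField K :=
    IsScalarTower.of_algebraMap_eq fun x => (Ideal.ResidueField.lift_algebraMap q _ _ _ x).symm
  have hm : SGA3b.IsMultType K (K ⊗[A] C) := S5299.isMultType_bialgEquiv
    (HomLift.cancelBC A q.ResidueField K C) (QIso.isMultType_baseChange hq K)
  haveI := FinMult.isCocomm_of_isMultType hm
  haveI : Algebra.FiniteType K (K ⊗[A] C) := Algebra.FiniteType.baseChange (A := C) K
  haveI := FinMult.isHopfIdeal_torsionIdeal (k := K) (A := K ⊗[A] C) n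
  haveI := (DiagHopf.isMultType_torsion hm hn _ rfl).2
  obtain ⟨I, hI₁, hI₂, -⟩ := exists_chart_bc H i w K
  haveI := hI₁; haveI := hI₂
  obtain ⟨e₁⟩ := exists_torsion_bc (R := A) (A := C) K n
  rw [← finrank_fibre _ q K hker, ← e₁.finrank_eq, ← finrank_kerPow H (baseHom A K ≫ i) I n x]
  have key : ∀ g : Spec (CommRingCat.of K) ⟶ S, g = S.fromSpecResidueField s →
      ((pullback.snd η[H].left (𝟙 H ^ n : H ⟶ H).left ≫ H.hom).fiberToSpecResidueField s).finrank x =
        (pullback.snd (pullback.snd η[H].left (𝟙 H ^ n : H ⟶ H).left ≫ H.hom) g).finrank x := by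
    intro g hg
    subst hg
    rfl
  exact key _ hψ

include w in
/-- Multiplicative type of a fibre from the geometric fibre. -/
theorem isMultType_geomFibre (q : Ideal A) [q.IsPrime]
    (h : SGA3x.IsMultTypeFT (Red.geomFibre (i.base (⟨q, ‹_›⟩ : PrimeSpectrum A)) H)) :
    SGA3b.IsMultType q.ResidueField (q.ResidueField ⊗[A] C) := by
  refine isMultType_fibre H i w q (Red.geomPt (i.base (⟨q, ‹_›⟩ : PrimeSpectrum A))) (fun x => ?_) h
  rw [Scheme.Hom.comp_apply]
  exact Scheme.fromSpecResidueField_apply _ _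

end Groth.Agent.MultNhd
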