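import Groth.Agent.MultNhdLib.Descent
import Groth.Agent.S5299

/-!
# The étale neighbourhood over an arbitrary base ring
-/

set_option autoImplicit false
set_option backward.isDefEq.respectTransparency false
set_option linter.style.haveILetI false
set_option synthInstance.maxHeartbeats 400000
set_option maxHeartbeats 1600000

noncomputable section

universe u

open scoped TensorProduct
open Groth.Agent.TorusField Groth.Agent.DiagHopf

namespace Groth.Agent.MultNhd

/-- If the points over `p` are flat, a basic open containing them consists of flat points. -/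
theorem exists_flat_away_fibre {A C : Type u} [CommRing A] [CommRing C] [Algebra A C]
    [Algebra.FinitePresentation A C] (p : Ideal A) [p.IsPrime]
    (hfl : ∀ (q : Ideal C) [q.IsPrime], q.comap (algebraMap A C) = p → Module.Flat A (Localization.AtPrime q)) :
    ∃ g : C, ∃ a ∉ p, g - algebraMap A C a ∈ p.map (algebraMap A C) ∧ Module.Flat A (Localization.Away g) := by
  have hmem : ∀ q : PrimeSpectrum C, q ∈ FlatLib.flatLocus A C C ↔ Module.Flat A (Localization.AtPrime q.asIdeal) := fun q =>
    let e : LocalizedModule q.asIdeal.primeCompl C ≃ₗ[C] Localization.AtPrime q.asIdeal :=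
      IsLocalizedModule.iso q.asIdeal.primeCompl (Algebra.linearMap C (Localization.AtPrime q.asIdeal))
    ⟨fun h => @Module.Flat.of_linearEquiv _ _ _ _ _ _ _ _ h (e.restrictScalars A).symm,
      fun h => @Module.Flat.of_linearEquiv _ _ _ _ _ _ _ _ h (e.restrictScalars A)⟩
  obtain ⟨J, hJ⟩ := (PrimeSpectrum.isClosed_iff_zeroLocus_ideal _).1
    (FlatLib.isOpen_flatLocus_fp (R := A) (S := C) (M := C)).isClosed_compl
  have hnle : ∃ a ∉ p, algebraMap A C a ∈ J ⊔ p.map (algebraMap A C) := by
    by_contra h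
    push_neg at h
    have hdisj : Disjoint ((J ⊔ p.map (algebraMap A C) : Ideal C) : Set C)
        ((Submonoid.map (algebraMap A C) p.primeCompl : Submonoid C) : Set C) :=
      Set.disjoint_right.2 fun x hx hx' => by
        obtain ⟨a, ha, rfl⟩ := hx
        exact h a ha hx'
    obtain ⟨q, hq, hle, hqd⟩ := Ideal.exists_le_prime_disjoint _ _ hdisj
    haveI := hq
    have hqp : q.comap (algebraMap A C) = p := by
      refine le_antisymm (fun a ha => ?_) (Ideal.map_le_iff_le_comap.1 (le_sup_right.trans hle))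
      by_contra hap
      exact Set.disjoint_left.1 hqd ha ⟨a, hap, rfl⟩
    have h1 : (⟨q, inferInstance⟩ : PrimeSpectrum C) ∈ (FlatLib.flatLocus A C C)ᶜ := by
      rw [hJ]; exact le_sup_left.trans hle
    exact h1 ((hmem _).2 (hfl q hqp))
  obtain ⟨a, hap, ha⟩ := hnle
  obtain ⟨g, hg, n, hn, hgn⟩ := Submodule.mem_sup.1 ha
  refine ⟨g, a, hap, by rw [← hgn, sub_add_cancel_left]; exact neg_mem hn, ?_⟩
  refine Module.flat_of_isLocalized_maximal (R := A) (Localization.Away g) (Localization.Away g) _
    (fun P _ => Algebra.linearMap (Localization.Away g) (Localization.AtPrime P)) fun P hP => ?_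
  let q := P.comap (algebraMap C (Localization.Away g))
  haveI : q.IsPrime := Ideal.comap_isPrime _ P
  have hgq : g ∉ q := fun h => hP.ne_top (P.eq_top_of_isUnit_mem h (IsLocalization.Away.algebraMap_isUnit g))
  have h : Module.Flat A (Localization.AtPrime q) := by
    refine (hmem ⟨q, inferInstance⟩).1 ?_
    by_contra h
    have h1 : (⟨q, inferInstance⟩ : PrimeSpectrum C) ∈ (FlatLib.flatLocus A C C)ᶜ := h
    rw [hJ] at h1
    exact hgq (h1 hg)
  haveI : IsLocalization.AtPrime (Localization.AtPrime P) q :=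
    IsLocalization.isLocalization_isLocalization_atPrime_isLocalization (Submonoid.powers g) (Localization.AtPrime P) P
  haveI := h
  exact Module.Flat.of_linearEquiv
    ((IsLocalization.algEquiv q.primeCompl (Localization.AtPrime P) (Localization.AtPrime q)).restrictScalars A).toLinearEquiv

/-- Flatness at the points of a flat basic open. -/
theorem flat_atPrime_of_flat_away {R B : Type u} [CommRing R] [CommRing B] [Algebra R B] (g : B)
    [Module.Flat R (Localization.Away g)] (Q : Ideal B) [Q.IsPrime] (hg : g ∉ Q) :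
    Module.Flat R (Localization.AtPrime Q) := by
  let W := Localization.Away g
  have hle : Submonoid.powers g ≤ Q.primeCompl := Submonoid.powers_le.2 hg
  let f : W →+* Localization.AtPrime Q :=
    IsLocalization.map (M := Submonoid.powers g) (T := Q.primeCompl) _ (RingHom.id _) hle
  letI : Algebra W (Localization.AtPrime Q) := f.toAlgebra
  haveI : IsScalarTower B W (Localization.AtPrime Q) :=
    IsScalarTower.of_algebraMap_eq fun c => (IsLocalization.map_eq (g := RingHom.id _) hle c).symm
  haveI : IsScalarTower R W (Localization.AtPrime Q) :=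
    IsScalarTower.of_algebraMap_eq fun r => by
      rw [IsScalarTower.algebraMap_apply R B (Localization.AtPrime Q), IsScalarTower.algebraMap_apply R B W,
        ← IsScalarTower.algebraMap_apply B W (Localization.AtPrime Q)]
  haveI : IsLocalization ((Q.primeCompl).map (algebraMap B W)) (Localization.AtPrime Q) :=
    IsLocalization.isLocalization_of_submonoid_le W (Localization.AtPrime Q) _ _ hle
  haveI : Module.Flat W (Localization.AtPrime Q) :=
    IsLocalization.flat _ ((Q.primeCompl).map (algebraMap B W))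
  exact Module.Flat.trans R W (Localization.AtPrime Q)

/-- Multiplicative type descends along an extension of fields. -/
theorem isMultType_of_field_ext {k K : Type u} [Field k] [Field K] [Algebra k K] {X : Type u} [CommRing X]
    [HopfAlgebra k X] (h : SGA3b.IsMultType K (K ⊗[k] X)) : SGA3b.IsMultType k X := by
  obtain ⟨L, _, _, N, _, ⟨E⟩⟩ := exists_field_split h
  letI : Algebra k L := ((algebraMap K L).comp (algebraMap k K)).toAlgebra
  haveI : IsScalarTower k K L := IsScalarTower.of_algebraMap_eq fun _ => rfl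
  obtain ⟨E'⟩ := exists_split_transfer E
  exact isMultType_of_split E'

/-- The étale neighbourhood, the idempotent, the point and the cover over any base ring. -/
theorem exists_nhd_ring {A C : Type u} [CommRing A] [CommRing C] [HopfAlgebra A C]
    [Algebra.FinitePresentation A C] (p : Ideal A) [p.IsPrime]
    (hfl : ∀ (q : Ideal C) [q.IsPrime], q.comap (algebraMap A C) = p → Module.Flat A (Localization.AtPrime q))
    (hs : SGA3b.IsMultType p.ResidueField (p.ResidueField ⊗[A] C)) :
    ∃ (S' : Type u) (_ : CommRing S') (_ : Algebra A S') (θ : S' →ₐ[A] p.ResidueField)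
      (F : Type u) (_ : CommRing F) (_ : HopfAlgebra S' F) (φ : S' ⊗[A] C →ₐc[S'] F) (ε : S' ⊗[A] C),
      Algebra.Etale A S' ∧ Function.Surjective φ ∧ IsIdempotentElem ε ∧ (∀ x, φ x = 0 ↔ x ∈ Ideal.span {ε}) ∧
        Algebra.TensorProduct.map θ (AlgHom.id A C) ε = 0 ∧
        ∃ (U : Type u) (_ : CommRing U) (_ : Algebra S' U), Algebra.Etale S' U ∧ Module.Finite S' U ∧
          Module.FaithfullyFlat S' U ∧
          ∃ (M : Type u) (_ : AddCommGroup M), AddGroup.FG M ∧ Nonempty (Split S' F M U) := by
  classical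
  obtain ⟨g, a, hap, hga, hgfl⟩ := exists_flat_away_fibre p hfl
  obtain ⟨R₂, _, _, B, _, _, eC, g₂, hft, hBfp, heg, hg₂fl⟩ :=
    HomLift.exists_hopf_model_fp (R := A) (A := C) inferInstance g hgfl
  haveI := hBfp; haveI := hg₂fl
  haveI : IsNoetherianRing R₂ := Algebra.FiniteType.isNoetherianRing ℤ R₂
  letI : Algebra R₂ C := ((algebraMap A C).comp (algebraMap R₂ A)).toAlgebra
  haveI : IsScalarTower R₂ A C := IsScalarTower.of_algebraMap_eq fun _ => rfl
  let jB : B →ₐ[R₂] C :=
    (eC.toAlgEquiv.toAlgHom.restrictScalars R₂).comp Algebra.TensorProduct.includeRight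
  have hjB : jB g₂ = g := heg
  let p₂ := p.comap (algebraMap R₂ A)
  haveI : p₂.IsPrime := Ideal.comap_isPrime _ p
  let v : p₂.ResidueField →ₐ[R₂] p.ResidueField := Ideal.ResidueField.mapₐ p₂ p (Algebra.ofId R₂ A) rfl
  letI : Algebra p₂.ResidueField p.ResidueField := v.toRingHom.toAlgebra
  haveI : IsScalarTower R₂ p₂.ResidueField p.ResidueField :=
    IsScalarTower.of_algebraMap_eq fun x => (v.commutes x).symm
  -- flatness at the points over the image of `p`
  have hfl₂ : ∀ (q : Ideal B) [q.IsPrime], q.comap (algebraMap R₂ B) = p₂ →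
      Module.Flat R₂ (Localization.AtPrime q) := by
    intro q _ hq
    refine flat_atPrime_of_flat_away g₂ q fun hmem => ?_
    let u : p₂.ResidueField →ₐ[R₂] q.ResidueField := Ideal.ResidueField.mapₐ p₂ q (Algebra.ofId R₂ B) hq.symm
    letI : Algebra p₂.ResidueField q.ResidueField := u.toRingHom.toAlgebra
    haveI : IsScalarTower R₂ p₂.ResidueField q.ResidueField :=
      IsScalarTower.of_algebraMap_eq fun x => (u.commutes x).symm
    haveI : Module.Free p₂.ResidueField q.ResidueField := Module.Free.of_divisionRing _ _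
    haveI : Module.FaithfullyFlat p₂.ResidueField q.ResidueField := by
      let bq := Module.Free.chooseBasis p₂.ResidueField q.ResidueField
      haveI : Nonempty (Module.Free.ChooseBasisIndex p₂.ResidueField q.ResidueField) := bq.index_nonempty
      haveI := Module.FaithfullyFlat.finsupp (R := p₂.ResidueField) (Module.Free.ChooseBasisIndex p₂.ResidueField q.ResidueField)
      exact Module.FaithfullyFlat.of_linearEquiv p₂.ResidueField _ bq.repr
    haveI : Nontrivial (p.ResidueField ⊗[p₂.ResidueField] q.ResidueField) :=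
      Module.FaithfullyFlat.rTensor_nontrivial p₂.ResidueField q.ResidueField p.ResidueField
    let W := p.ResidueField ⊗[p₂.ResidueField] q.ResidueField
    let fB : B →ₐ[R₂] W :=
      ((Algebra.TensorProduct.includeRight : q.ResidueField →ₐ[p₂.ResidueField] _).restrictScalars R₂).comp
        (IsScalarTower.toAlgHom R₂ B q.ResidueField)
    let ψ : C →ₐ[A] W :=
      (Algebra.TensorProduct.lift (Algebra.ofId A _) fB fun _ _ => Commute.all _ _).comp eC.symm.toAlgEquiv.toAlgHom
    have hψg : ψ g = 0 := by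
      have hg' : eC.symm g = (1 : A) ⊗ₜ[R₂] g₂ := by rw [← heg]; exact eC.toAlgEquiv.symm_apply_apply _
      show Algebra.TensorProduct.lift (Algebra.ofId A _) fB (fun _ _ => Commute.all _ _) (eC.symm g) = 0
      rw [hg', Algebra.TensorProduct.lift_tmul, map_one, one_mul]
      show (1 : p.ResidueField) ⊗ₜ[p₂.ResidueField] algebraMap B q.ResidueField g₂ = 0
      rw [Ideal.algebraMap_residueField_eq_zero.2 hmem, TensorProduct.tmul_zero]
    have hle : p.map (algebraMap A C) ≤ RingHom.ker ψ.toRingHom := Ideal.map_le_iff_le_comap.2 fun r hr => by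
      show ψ (algebraMap A C r) = 0
      rw [AlgHom.commutes]
      show (algebraMap A p.ResidueField r) ⊗ₜ[p₂.ResidueField] (1 : q.ResidueField) = 0
      rw [Ideal.algebraMap_residueField_eq_zero.2 hr, TensorProduct.zero_tmul]
    have h1 : ψ (g - algebraMap A C a) = 0 := hle hga
    rw [map_sub, hψg, zero_sub, neg_eq_zero, AlgHom.commutes, IsScalarTower.algebraMap_apply A p.ResidueField W] at h1
    exact hap (Ideal.algebraMap_residueField_eq_zero.1
      ((algebraMap p.ResidueField W).injective (h1.trans (map_zero _).symm)))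
  -- the fibre
  have hs₂ : SGA3b.IsMultType p₂.ResidueField (p₂.ResidueField ⊗[R₂] B) := by
    refine isMultType_of_field_ext (K := p.ResidueField) ?_
    have h1 : SGA3b.IsMultType p.ResidueField (p.ResidueField ⊗[R₂] B) := by
      refine S5299.isMultType_bialgEquiv (HomLift.cancelBC R₂ A p.ResidueField B) ?_
      refine S5299.isMultType_bialgEquiv (BialgEquiv.ofBijective
        (Bialgebra.TensorProduct.map (BialgHom.id p.ResidueField p.ResidueField) eC.symm.toBialgHom) ?_) hs
      exact (Algebra.TensorProduct.congr (AlgEquiv.refl (R := p.ResidueField) (A₁ := p.ResidueField))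
        eC.symm.toAlgEquiv).bijective
    exact S5299.isMultType_bialgEquiv (HomLift.cancelBC R₂ p₂.ResidueField p.ResidueField B).symm h1
  obtain ⟨S₁, _, _, e, hee, hhopf, S₂, _, _, _, _, q₂, _, hq₂, hS₁et, hS₂et, hbij, hzero, U₀, _, _, _, _, hUet, hUfin,
    hUff, M, _, hM, ⟨EU⟩⟩ := exists_nhd_noetherian p₂ hfl₂ hs₂
  haveI := hS₂et; haveI := hUet; haveI := hUfin; haveI := hUff; haveI := hhopf
  -- the base
  let S' := A ⊗[R₂] S₂
  letI : Algebra S₂ S' := (Algebra.TensorProduct.includeRight : S₂ →ₐ[R₂] S').toRingHom.toAlgebra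
  letI : Algebra S₁ S' := ((algebraMap S₂ S').comp (algebraMap S₁ S₂)).toAlgebra
  haveI : IsScalarTower S₁ S₂ S' := IsScalarTower.of_algebraMap_eq fun _ => rfl
  haveI : IsScalarTower R₂ S₂ S' :=
    IsScalarTower.of_algebraMap_eq fun r => ((Algebra.TensorProduct.includeRight : S₂ →ₐ[R₂] S').commutes r).symm
  haveI : IsScalarTower R₂ S₁ S' := IsScalarTower.of_algebraMap_eq fun r => by
    rw [IsScalarTower.algebraMap_apply R₂ S₂ S', IsScalarTower.algebraMap_apply R₂ S₁ S₂]
    rfl
  let er := RingEquiv.ofBijective _ hbij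
  let χ : q₂.ResidueField →ₐ[R₂] p.ResidueField :=
    { toRingHom := v.toRingHom.comp er.symm.toRingHom
      commutes' := fun r => by
        show v (er.symm (algebraMap R₂ q₂.ResidueField r)) = _
        rw [show er.symm (algebraMap R₂ q₂.ResidueField r) = algebraMap R₂ p₂.ResidueField r from
          er.symm_apply_eq.2 (by
            show _ = Ideal.ResidueField.map p₂ q₂ (algebraMap R₂ S₂) hq₂ (algebraMap R₂ p₂.ResidueField r)
            rw [Ideal.ResidueField.map_algebraMap, ← IsScalarTower.algebraMap_apply]), v.commutes] }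
  let θ : S' →ₐ[A] p.ResidueField :=
    Algebra.TensorProduct.lift (Algebra.ofId A _) (χ.comp (IsScalarTower.toAlgHom R₂ S₂ q₂.ResidueField))
      fun _ _ => Commute.all _ _
  -- the group
  let J := Ideal.span ({e} : Set (S₁ ⊗[R₂] B))
  let G₁ := (S₁ ⊗[R₂] B) ⧸ J
  letI : CommRing G₁ := Ideal.Quotient.commRing J
  letI : Algebra S₁ G₁ := Ideal.Quotient.algebra S₁
  let mk : S₁ ⊗[R₂] B →ₐc[S₁] G₁ := Bialgebra.Quotient.mkBialgHom J
  let μC : S' ⊗[A] C →ₐc[S'] S' ⊗[S₁] (S₁ ⊗[R₂] B) :=
    ((HomLift.cancelBC R₂ S₁ S' B).symm.toBialgHom.comp (HomLift.cancelBC R₂ A S' B).toBialgHom).comp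
      (Bialgebra.TensorProduct.map (BialgHom.id S' S') eC.symm.toBialgHom)
  have hμb : Function.Bijective μC :=
    (((HomLift.cancelBC R₂ S₁ S' B).symm.toAlgEquiv.bijective).comp
      (HomLift.cancelBC R₂ A S' B).toAlgEquiv.bijective).comp
      (Algebra.TensorProduct.congr (AlgEquiv.refl (R := S') (A₁ := S')) eC.symm.toAlgEquiv).bijective
  let π : S' ⊗[S₁] (S₁ ⊗[R₂] B) →ₐc[S'] S' ⊗[S₁] G₁ := Bialgebra.TensorProduct.map (BialgHom.id S' S') mk
  let κB : S₁ ⊗[R₂] B →ₐ[R₂] S' ⊗[A] C :=
    Algebra.TensorProduct.lift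
      (((Algebra.TensorProduct.includeLeft : S' →ₐ[A] S' ⊗[A] C).restrictScalars R₂).comp
        (IsScalarTower.toAlgHom R₂ S₁ S'))
      (((Algebra.TensorProduct.includeRight : C →ₐ[A] S' ⊗[A] C).restrictScalars R₂).comp jB)
      fun _ _ => Commute.all _ _
  have hμκ : ∀ x, μC (κB x) = (1 : S') ⊗ₜ[S₁] x := by
    intro x
    induction x using TensorProduct.induction_on with
    | zero => rw [map_zero, map_zero, TensorProduct.tmul_zero]
    | add x y hx hy => rw [map_add, map_add, hx, hy, TensorProduct.tmul_add]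
    | tmul s b =>
      have h1 : κB (s ⊗ₜ b) = algebraMap S₁ S' s ⊗ₜ[A] jB b := by
        simp [κB, Algebra.TensorProduct.tmul_mul_tmul]
      rw [h1]
      show (HomLift.cancelBC R₂ S₁ S' B).symm (HomLift.cancelBC R₂ A S' B (_ ⊗ₜ[A] eC.symm (jB b))) = _
      rw [show eC.symm (jB b) = (1 : A) ⊗ₜ[R₂] b from eC.toAlgEquiv.symm_apply_apply _, HomLift.cancelBC_apply,
        Algebra.TensorProduct.cancelBaseChange_tmul, one_smul]
      show (HomLift.cancelBC R₂ S₁ S' B).symm (algebraMap S₁ S' s ⊗ₜ[R₂] b) = _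
      refine (HomLift.cancelBC R₂ S₁ S' B).toAlgEquiv.symm_apply_eq.2 ?_
      show _ = HomLift.cancelBC R₂ S₁ S' B _
      rw [HomLift.cancelBC_apply, Algebra.TensorProduct.cancelBaseChange_tmul, Algebra.smul_def, mul_one]
  have hker : ∀ x, π.comp μC x = 0 ↔ x ∈ Ideal.span {κB e} := by
    intro x
    have hmk : RingHom.ker (mk : S₁ ⊗[R₂] B →ₐ[S₁] G₁) = J := Ideal.mk_ker
    have h1 : RingHom.ker (Algebra.TensorProduct.map (AlgHom.id S₁ S') (mk : S₁ ⊗[R₂] B →ₐ[S₁] G₁)) =
        Ideal.span {(1 : S') ⊗ₜ[S₁] e} := by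
      rw [Algebra.TensorProduct.lTensor_ker _ Ideal.Quotient.mk_surjective, hmk, Ideal.map_span, Set.image_singleton]
      rfl
    show π (μC x) = 0 ↔ _
    refine ⟨fun h => ?_, fun h => ?_⟩
    · have h2 : μC x ∈ Ideal.span {(1 : S') ⊗ₜ[S₁] e} := h1 ▸ (h :)
      obtain ⟨c, hc⟩ := Ideal.mem_span_singleton'.1 h2
      obtain ⟨c', rfl⟩ := hμb.2 c
      exact Ideal.mem_span_singleton'.2 ⟨c', hμb.1 (by rw [map_mul, hμκ, hc])⟩
    · obtain ⟨c, rfl⟩ := Ideal.mem_span_singleton'.1 h
      rw [map_mul, hμκ, map_mul,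
        show π ((1 : S') ⊗ₜ[S₁] e) = (1 : S') ⊗ₜ[S₁] mk e from rfl,
        show mk e = 0 from Ideal.Quotient.eq_zero_iff_mem.2 (Ideal.subset_span rfl), TensorProduct.tmul_zero]
      exact mul_zero (M₀ := S' ⊗[S₁] G₁) _
  have hθ : Algebra.TensorProduct.map θ (AlgHom.id A C) (κB e) = 0 := by
    let μ : p.ResidueField ⊗[R₂] B →ₐ[R₂] p.ResidueField ⊗[A] C :=
      Algebra.TensorProduct.lift
        ((Algebra.TensorProduct.includeLeft : p.ResidueField →ₐ[A] p.ResidueField ⊗[A] C).restrictScalars R₂)
        (((Algebra.TensorProduct.includeRight : C →ₐ[A] p.ResidueField ⊗[A] C).restrictScalars R₂).comp jB)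
        fun _ _ => Commute.all _ _
    have h : ∀ x : S₁ ⊗[R₂] B, Algebra.TensorProduct.map θ (AlgHom.id A C) (κB x) =
        μ (push χ (push ((IsScalarTower.toAlgHom R₂ S₂ q₂.ResidueField).comp (IsScalarTower.toAlgHom R₂ S₁ S₂)) x)) := by
      intro x
      induction x using TensorProduct.induction_on with
      | zero => simp
      | add x y hx hy => simp only [map_add, hx, hy]
      | tmul s b =>
        have h1 : θ ((1 : A) ⊗ₜ[R₂] algebraMap S₁ S₂ s) = χ (algebraMap S₂ q₂.ResidueField (algebraMap S₁ S₂ s)) := by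
          show Algebra.TensorProduct.lift _ _ _ _ = _
          rw [Algebra.TensorProduct.lift_tmul, map_one, one_mul]
          rfl
        simp [κB, μ, push, Algebra.TensorProduct.tmul_mul_tmul]
        exact congrArg (· ⊗ₜ[A] jB b) h1
    rw [h, hzero, map_zero, map_zero]
  -- the cover
  obtain ⟨E₁, -⟩ := exists_split_push EU
    ((Algebra.TensorProduct.includeRight : U₀ →ₐ[S₂] S' ⊗[S₂] U₀).restrictScalars S₁)
  obtain ⟨E₂⟩ := exists_split_transfer' (R' := S') E₁
  refine ⟨S', inferInstance, inferInstance, θ, S' ⊗[S₁] G₁, inferInstance, inferInstance, π.comp μC, κB e,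
    inferInstance, ?_, hee.map κB, hker, hθ, S' ⊗[S₂] U₀, inferInstance, inferInstance, inferInstance,
    inferInstance, inferInstance, M, inferInstance, hM, ⟨E₂⟩⟩
  exact (Algebra.TensorProduct.map_surjective (AlgHom.id S₁ S') _ Function.surjective_id
    Ideal.Quotient.mk_surjective).comp hμb.2

end Groth.Agent.MultNhd
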