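import Groth.Agent.HomCorrLib.Bridge
import Groth.Agent.ToriSchLib.Torsion
import Groth.Agent.DescHomLib.MultBC
import Mathlib.AlgebraicGeometry.Morphisms.Etale
import Mathlib.AlgebraicGeometry.Morphisms.Finite

/-!
# Lemmas on schemes for the étale neighbourhood
-/

set_option autoImplicit false
set_option backward.isDefEq.respectTransparency false
set_option backward.isDefEq.respectTransparency.types false
set_option linter.style.haveILetI false
set_option synthInstance.maxHeartbeats 200000

noncomputable section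

universe u

open CategoryTheory CategoryTheory.Limits MonoidalCategory CartesianMonoidalCategory AlgebraicGeometry CoactBr
open scoped MonObj TensorProduct

namespace Groth.Agent.MultNhd

open Groth.Agent.DiagRep (baseHom bcHom)

attribute [local instance] CoactBr.braidedAlgSpecOf

theorem flat_stalkMap_congr {X Y : Scheme.{u}} {f g : X ⟶ Y} (h : f = g) (x : X) (hf : (f.stalkMap x).hom.Flat) :
    (g.stalkMap x).hom.Flat := by
  subst h
  exact hf

/-- Flatness of the local ring at a prime from flatness of a stalk map. -/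
theorem flat_atPrime_of_stalk {A C : Type u} [CommRing A] [CommRing C] [Algebra A C] (q : Ideal C) [q.IsPrime]
    (h : ((Spec.map (CommRingCat.ofHom (algebraMap A C))).stalkMap (⟨q, ‹_›⟩ : PrimeSpectrum C)).hom.Flat) :
    Module.Flat A (Localization.AtPrime q) := by
  haveI : (RingHom.toMorphismProperty RingHom.Flat).RespectsIso :=
    RingHom.toMorphismProperty_respectsIso_iff.mp RingHom.Flat.respectsIso
  have h1 := (MorphismProperty.arrow_mk_iso_iff (RingHom.toMorphismProperty RingHom.Flat)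
    (Scheme.arrowStalkMapSpecIso (CommRingCat.ofHom (algebraMap A C)) (⟨q, ‹_›⟩ : PrimeSpectrum C))).1 h
  let p := q.comap (algebraMap A C)
  have h2 : (Localization.localRingHom p q (algebraMap A C) rfl).Flat := h1
  have h3 : (algebraMap A (Localization.AtPrime p)).Flat := RingHom.flat_algebraMap_iff.2 inferInstance
  have h4 := h3.comp h2
  have h5 : (Localization.localRingHom p q (algebraMap A C) rfl).comp (algebraMap A (Localization.AtPrime p)) =
      algebraMap A (Localization.AtPrime q) := RingHom.ext fun a => by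
    rw [RingHom.comp_apply, Localization.localRingHom_to_map, ← IsScalarTower.algebraMap_apply]
  rw [h5] at h4
  exact RingHom.flat_algebraMap_iff.1 h4

/-- Flatness at the points over the preimage of a point, on an affine chart. -/
theorem flat_atPrime_of_chart {S : Scheme.{u}} (H : Over S) {A C : Type u} [CommRing A] [CommRing C] [Algebra A C]
    (i : Spec (CommRingCat.of A) ⟶ S) [IsOpenImmersion i] (w : sp A C ≅ Red.bc i H) (p : Ideal A) [p.IsPrime]
    (hfl : ∀ x : ↥H.left, H.hom.base x = i.base (⟨p, ‹_›⟩ : PrimeSpectrum A) → (H.hom.stalkMap x).hom.Flat)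
    (q : Ideal C) [q.IsPrime] (hq : q.comap (algebraMap A C) = p) : Module.Flat A (Localization.AtPrime q) := by
  let σ : Spec (CommRingCat.of A) ⟶ S := i
  let φ := CommRingCat.ofHom (algebraMap A C)
  let a : Spec (CommRingCat.of C) ⟶ H.left := w.hom.left ≫ pullback.fst H.hom i
  haveI : IsIso w.hom.left := inferInstanceAs (IsIso ((Over.forget _).map w.hom))
  haveI : IsOpenImmersion (pullback.fst H.hom i) := MorphismProperty.pullback_fst _ _ ‹IsOpenImmersion i›
  haveI : IsOpenImmersion a := inferInstanceAs (IsOpenImmersion (w.hom.left ≫ pullback.fst H.hom i))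
  have hw : Spec.map φ ≫ i = a ≫ H.hom := by
    show (sp A C).hom ≫ i = (w.hom.left ≫ pullback.fst H.hom i) ≫ H.hom
    rw [Category.assoc, pullback.condition, ← Over.w w.hom, Category.assoc]
    rfl
  let x : Spec (CommRingCat.of C) := (⟨q, ‹_›⟩ : PrimeSpectrum C)
  have hx : H.hom.base (a.base x) = i.base (⟨p, ‹_›⟩ : PrimeSpectrum A) := by
    show (a ≫ H.hom).base x = _
    rw [← hw]
    show i.base (Spec.map φ x) = _
    exact congrArg i.base (PrimeSpectrum.ext hq)
  have h1 : ((a ≫ H.hom).stalkMap x).hom.Flat := by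
    rw [Scheme.Hom.stalkMap_comp]
    exact RingHom.Flat.comp (hfl _ hx) (RingHom.Flat.of_bijective (ConcreteCategory.bijective_of_isIso (a.stalkMap x)))
  have h2 := flat_stalkMap_congr hw.symm x h1
  rw [Scheme.Hom.stalkMap_comp] at h2
  refine flat_atPrime_of_stalk q ?_
  have h3 : (Spec.map φ).stalkMap x =
      inv (i.stalkMap (Spec.map φ x)) ≫ (i.stalkMap (Spec.map φ x) ≫ (Spec.map φ).stalkMap x) := by simp
  show ((Spec.map φ).stalkMap x).hom.Flat
  rw [h3, CommRingCat.hom_comp]
  exact RingHom.Flat.comp (RingHom.Flat.of_bijective (ConcreteCategory.bijective_of_isIso _)) h2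

/-- The residue field map at the image of a section over a point is an isomorphism. -/
theorem isIso_residueFieldMap_of_section {X Y : Scheme.{u}} {K : Type u} [Field K] (f : X ⟶ Y)
    (σ : Spec (CommRingCat.of K) ⟶ X) (y : Y) (e : Y.residueField y ⟶ CommRingCat.of K) [IsIso e]
    (h : σ ≫ f = Spec.map e ≫ Y.fromSpecResidueField y) :
    IsIso (f.residueFieldMap (σ (IsLocalRing.closedPoint K))) ∧
      IsIso (X.descResidueField (Scheme.stalkClosedPointTo σ)) ∧ f (σ (IsLocalRing.closedPoint K)) = y := by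
  have h3 : Scheme.SpecToEquivOfField K Y (σ ≫ f) = ⟨y, e⟩ := by
    rw [h]; exact (Scheme.SpecToEquivOfField K Y).right_inv ⟨y, e⟩
  obtain ⟨hy, h4⟩ := Scheme.SpecToEquivOfField_eq_iff.1 h3
  have hb : IsIso (Y.descResidueField (Scheme.stalkClosedPointTo (σ ≫ f))) := by
    have h4' : Y.descResidueField (Scheme.stalkClosedPointTo (σ ≫ f)) = _ := h4
    rw [h4']
    infer_instance
  rw [Scheme.descResidueField_stalkClosedPointTo_comp] at hb
  let r := f.residueFieldMap (σ (IsLocalRing.closedPoint K))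
  let d := X.descResidueField (Scheme.stalkClosedPointTo σ)
  have hc := (ConcreteCategory.isIso_iff_bijective (r ≫ d)).1 hb
  have hd : Function.Bijective d.hom := ⟨d.hom.injective, fun z => by
    obtain ⟨w, hw⟩ := hc.2 z
    exact ⟨_, hw⟩⟩
  refine ⟨(ConcreteCategory.isIso_iff_bijective r).2 ⟨r.hom.injective, fun z => ?_⟩,
    (ConcreteCategory.isIso_iff_bijective d).2 hd, hy⟩
  obtain ⟨w, hw⟩ := hc.2 (d z)
  exact ⟨w, hd.1 hw⟩

/-- A finite étale cover splitting a group gives multiplicative type. -/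
theorem isMultTypeFT_of_finiteEtale {S T : Scheme.{u}} {G : Over S} [GrpObj G] (f : T ⟶ S) [IsFinite f] [Etale f]
    [Surjective f] {M : Type} [AddCommGroup M] (hM : AddGroup.FG M)
    (e : Grp.mk (Red.bc f G) ≅ Grp.mk (Red.DS T M)) :
    SGA3x.IsMultTypeFT G ∧ TwC.Locally S TwC.Topology.finiteEtale (fun S'' g => ∃ (M : Type) (_ : AddCommGroup M),
      AddGroup.FG M ∧ Nonempty (Grp.mk (Red.bc g G) ≅ Grp.mk (Red.DS S'' M))) := by
  have hU : ∀ U : T.Opens, Nonempty (Grp.mk (Red.bc (U.ι ≫ f) G) ≅ Grp.mk (Red.DS (U : Scheme.{u}) M)) := fun U => by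
    let e₁ : Red.bc f G ≅ Red.DS T M := (Grp.forget _).mapIso e
    haveI : IsMonHom e₁.hom := e.hom.hom.isMonHom_hom
    let b : Red.bc U.ι (Red.bc f G) ≅ Red.bc (U.ι ≫ f) G := ActBC.bcCompIso U.ι f G rfl
    let c : Red.bc U.ι (Red.DS T M) ≅ Red.DS (U : Scheme.{u}) M :=
      ActBC.bcCompIso U.ι _ _ (specULiftZIsTerminal.hom_ext _ _)
    haveI : IsMonHom b.hom := ActBC.bcCompIso_isMonHom _ _ _
    haveI : IsMonHom b.inv := inferInstance
    haveI : IsMonHom c.hom := ActBC.bcCompIso_isMonHom _ _ _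
    haveI hm : IsMonHom (M := Red.bc U.ι (Red.bc f G)) (N := Red.bc U.ι (Red.DS T M))
        ((Over.pullback U.ι).map e₁.hom) :=
      @Functor.map.instIsMonHom _ _ _ _ _ _ (Over.pullback U.ι) _ _ _ _ _ e₁.hom _
    let w : Red.bc (U.ι ≫ f) G ≅ Red.DS (U : Scheme.{u}) M := b.symm ≪≫ (Over.pullback U.ι).mapIso e₁ ≪≫ c
    haveI : IsMonHom w.hom := by
      show IsMonHom (b.inv ≫ (Over.pullback U.ι).map e₁.hom ≫ c.hom)
      infer_instance
    exact ⟨Grp.mkIso' w⟩
  refine ⟨⟨T, f, inferInstance, inferInstance, fun V hV => ⟨f ⁻¹ᵁ V, f.isCompact_preimage hV.isCompact,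
    Set.image_preimage_eq _ f.surjective⟩, fun z => ⟨⊤, trivial, M, inferInstance, hM, hU ⊤⟩⟩,
    T, f, inferInstance, inferInstance, inferInstance, fun z => ⟨⊤, trivial, ?_, M, inferInstance, hM, hU ⊤⟩⟩
  rw [TopologicalSpace.Opens.coe_top]
  exact isClosed_univ

/-- The base change of an open immersion to a point whose whole fibre it contains is an isomorphism. -/
theorem isIso_pullback_map_of_fibre {S T : Scheme.{u}} {G H : Over S} (j : G ⟶ H) [IsOpenImmersion j.left]
    (g : T ⟶ S) [IsPreimmersion g]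
    (hj : ∀ y : ↥H.left, H.hom.base y ∈ Set.range g.base → y ∈ Set.range j.left.base) :
    IsIso ((Over.pullback g).map j).left := by
  let k := ((Over.pullback g).map j).left
  haveI : IsOpenImmersion k := MorphismProperty.baseChange_map (P := @IsOpenImmersion) g j ‹_›
  haveI : IsPreimmersion (pullback.fst H.hom g) := MorphismProperty.pullback_fst _ _ ‹IsPreimmersion g›
  haveI : Surjective k := ⟨fun z => by
    have hz : H.hom.base ((pullback.fst H.hom g).base z) ∈ Set.range g.base := by
      refine ⟨(pullback.snd H.hom g).base z, ?_⟩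
      show (pullback.snd H.hom g ≫ g).base z = (pullback.fst H.hom g ≫ H.hom).base z
      rw [pullback.condition]
    obtain ⟨t, ht⟩ := hj _ hz
    obtain ⟨y, hy⟩ := hz
    obtain ⟨w, hw, -⟩ := Scheme.Pullback.exists_preimage_pullback (f := G.hom) (g := g) t y (by
      rw [hy, ← ht]
      show _ = (j.left ≫ H.hom).base t
      rw [Over.w])
    refine ⟨w, (pullback.fst H.hom g).isEmbedding.injective ?_⟩
    rw [← ht, ← hw]
    show (k ≫ pullback.fst H.hom g).base w = (pullback.fst G.hom g ≫ j.left).base w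
    rw [ActBC.pullback_map_left_fst]
    rfl⟩
  haveI : Epi k.base := (TopCat.epi_iff_surjective _).2 k.surjective
  exact IsOpenImmersion.isIso k

/-- An idempotent ideal cuts out an open and closed subscheme. -/
theorem isClopen_specMap {X F : Type u} [CommRing X] [CommRing F] (φ : X →+* F) (hφ : Function.Surjective φ)
    (ε : X) (hε : IsIdempotentElem ε) (hker : ∀ x, φ x = 0 ↔ x ∈ Ideal.span {ε}) :
    IsOpenImmersion (Spec.map (CommRingCat.ofHom φ)) ∧ IsClosedImmersion (Spec.map (CommRingCat.ofHom φ)) := by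
  letI : Algebra X F := φ.toAlgebra
  haveI : IsLocalization.Away (1 - ε) F :=
    IsLocalization.away_of_isIdempotentElem hε.one_sub (by rw [sub_sub_cancel]; exact Ideal.ext hker) hφ
  exact ⟨IsOpenImmersion.of_isLocalization (S := F) (1 - ε), IsClosedImmersion.spec_of_surjective _ hφ⟩

/-- An element killed in the fibre lies in every prime over the point. -/
theorem mem_of_map_eq_zero {A S' C : Type u} [CommRing A] [CommRing S'] [Algebra A S'] [CommRing C] [Algebra A C]
    (p : Ideal A) [p.IsPrime] (θ : S' →ₐ[A] p.ResidueField) (ε : S' ⊗[A] C)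
    (hε : Algebra.TensorProduct.map θ (AlgHom.id A C) ε = 0) (P : Ideal (S' ⊗[A] C)) [P.IsPrime]
    (hP : P.comap (algebraMap S' (S' ⊗[A] C)) = RingHom.ker θ) : ε ∈ P := by
  let q := P.comap (algebraMap S' (S' ⊗[A] C))
  haveI : q.IsPrime := Ideal.comap_isPrime _ _
  have hqA : p = q.comap (algebraMap A S') := by
    ext a
    show a ∈ p ↔ algebraMap A S' a ∈ P.comap _
    rw [hP, RingHom.mem_ker, θ.commutes, Ideal.algebraMap_residueField_eq_zero]
  let θ' : q.ResidueField →+* p.ResidueField := Ideal.ResidueField.lift q θ.toRingHom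
    (fun x hx => by
      have : x ∈ RingHom.ker θ := hP ▸ hx
      exact this)
    (fun x hx => show IsUnit _ from isUnit_iff_ne_zero.2 fun h0 => hx (by
      show x ∈ P.comap _
      rw [hP]; exact h0))
  have hθ' : ∀ x, θ' (algebraMap S' q.ResidueField x) = θ x := fun x => Ideal.ResidueField.lift_algebraMap q _ _ _ x
  have hid : θ'.comp (Ideal.ResidueField.map p q (algebraMap A S') hqA) = RingHom.id _ :=
    Ideal.ResidueField.ringHom_ext (RingHom.ext fun a => by
      show θ' (Ideal.ResidueField.map p q (algebraMap A S') hqA (algebraMap A p.ResidueField a)) = _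
      rw [Ideal.ResidueField.map_algebraMap, hθ', θ.commutes]
      rfl)
  have hb : Function.Bijective θ' := ⟨θ'.injective, fun z => ⟨_, DFunLike.congr_fun hid z⟩⟩
  let κ := P.ResidueField
  let u : q.ResidueField →ₐ[S'] κ := Ideal.ResidueField.mapₐ q P (Algebra.ofId S' _) rfl
  let er := RingEquiv.ofBijective θ' hb
  let w : p.ResidueField →ₐ[A] κ :=
    { toRingHom := u.toRingHom.comp er.symm.toRingHom
      commutes' := fun a => by
        show u (er.symm (algebraMap A p.ResidueField a)) = _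
        rw [show er.symm (algebraMap A p.ResidueField a) = algebraMap S' q.ResidueField (algebraMap A S' a) from
          er.symm_apply_eq.2 (by
            show _ = θ' _
            rw [hθ', θ.commutes]), u.commutes, ← IsScalarTower.algebraMap_apply] }
  let c : C →ₐ[A] κ := (IsScalarTower.toAlgHom A (S' ⊗[A] C) κ).comp Algebra.TensorProduct.includeRight
  let L : p.ResidueField ⊗[A] C →ₐ[A] κ := Algebra.TensorProduct.lift w c fun _ _ => Commute.all _ _
  have hL : L.comp (Algebra.TensorProduct.map θ (AlgHom.id A C)) = IsScalarTower.toAlgHom A (S' ⊗[A] C) κ := by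
    refine Algebra.TensorProduct.ext' fun s x => ?_
    show L (θ s ⊗ₜ x) = algebraMap (S' ⊗[A] C) κ (s ⊗ₜ x)
    rw [Algebra.TensorProduct.lift_tmul]
    show u (er.symm (θ s)) * algebraMap (S' ⊗[A] C) κ ((1 : S') ⊗ₜ x) = _
    rw [show er.symm (θ s) = algebraMap S' q.ResidueField s from er.symm_apply_eq.2 (hθ' s).symm, u.commutes,
      IsScalarTower.algebraMap_apply S' (S' ⊗[A] C) κ, ← map_mul,
      show algebraMap S' (S' ⊗[A] C) s = s ⊗ₜ[A] (1 : C) from rfl, Algebra.TensorProduct.tmul_mul_tmul, mul_one,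
      one_mul]
  have h0 := DFunLike.congr_fun hL ε
  rw [AlgHom.comp_apply, hε, map_zero] at h0
  exact Ideal.algebraMap_residueField_eq_zero.1 h0.symm

/-- The Hopf algebra of a fibre of multiplicative type on an affine chart is of multiplicative type. -/
theorem isMultType_of_section {S T : Scheme.{u}} (H : Over S) [GrpObj H] {A C : Type u} [CommRing A] [CommRing C]
    [HopfAlgebra A C] (i : Spec (CommRingCat.of A) ⟶ S) (w : sp A C ≅ Red.bc i H) [IsMonHom w.hom] {K : Type u}
    [CommRing K] [Algebra A K] (e : Spec (CommRingCat.of K) ⟶ T) (g : T ⟶ S) (hsec : baseHom A K ≫ i = e ≫ g)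
    (hs : SGA3x.IsMultTypeFT (Red.bc g H)) : SGA3b.IsMultType K (K ⊗[A] C) := by
  let m := DescHom.isMultTypeFT_bc hs e
  let b₁ : Red.bc e (Red.bc g H) ≅ Red.bc (baseHom A K ≫ i) H := ActBC.bcCompIso _ _ H hsec.symm
  let b₂ : Red.bc (baseHom A K) (Red.bc i H) ≅ Red.bc (baseHom A K ≫ i) H := ActBC.bcCompIso _ _ H rfl
  haveI : IsMonHom b₁.hom := ActBC.bcCompIso_isMonHom _ _ _
  haveI : IsMonHom b₂.hom := ActBC.bcCompIso_isMonHom _ _ _
  haveI : IsMonHom b₂.inv := inferInstance
  haveI : IsMonHom (b₁ ≪≫ b₂.symm).hom := by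
    show IsMonHom (b₁.hom ≫ b₂.inv)
    infer_instance
  have hm := ToriSch.isMultTypeFT_congr m (b₁ ≪≫ b₂.symm)
  let P := (Over.pullback (baseHom A K)).map w.hom
  haveI hb : IsMonHom (M := Red.bc (baseHom A K) (sp A C)) (N := Red.bc (baseHom A K) (Red.bc i H)) P :=
    @Functor.map.instIsMonHom _ _ _ _ _ _ (Over.pullback (baseHom A K)) _ _ _ _ _ w.hom _
  haveI : IsIso (bcHom A K C) := inferInstance
  haveI : IsMonHom (asIso (bcHom A K C)).hom := DiagRep.isMonHom_bcHom A K C
  haveI : IsMonHom ((asIso (bcHom A K C)).inv ≫ P) := inferInstance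
  refine HomCorr.isMultType_of_locally (R := K) (A := K ⊗[A] C) (H := Red.bc (baseHom A K) (Red.bc i H))
    ((asIso (bcHom A K C)).inv ≫ P) ?_
  obtain ⟨X, t, h1, h2, h3, h4⟩ := hm
  refine ⟨X, t, h1, h2, h3, fun z => ?_⟩
  obtain ⟨U, hU, M, iM, -, hM⟩ := h4 z
  exact ⟨U, hU, M, iM, hM⟩

/-- The chart of a base change. -/
theorem exists_chart_bc {S : Scheme.{u}} (H : Over S) [GrpObj H] {A C : Type u} [CommRing A] [CommRing C]
    [HopfAlgebra A C] (i : Spec (CommRingCat.of A) ⟶ S) (w : sp A C ≅ Red.bc i H) [IsMonHom w.hom] (S' : Type u)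
    [CommRing S'] [Algebra A S'] :
    ∃ I : sp S' (S' ⊗[A] C) ⟶ Red.bc (baseHom A S' ≫ i) H, IsMonHom I ∧ IsIso I ∧ IsIso I.left := by
  let P := (Over.pullback (baseHom A S')).map w.hom
  haveI hb : IsMonHom (M := Red.bc (baseHom A S') (sp A C)) (N := Red.bc (baseHom A S') (Red.bc i H)) P :=
    @Functor.map.instIsMonHom _ _ _ _ _ _ (Over.pullback (baseHom A S')) _ _ _ _ _ w.hom _
  haveI : IsIso (bcHom A S' C) := inferInstance
  haveI : IsMonHom (asIso (bcHom A S' C)).hom := DiagRep.isMonHom_bcHom A S' C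
  let b : Red.bc (baseHom A S') (Red.bc i H) ≅ Red.bc (baseHom A S' ≫ i) H := ActBC.bcCompIso _ _ H rfl
  haveI : IsMonHom b.hom := ActBC.bcCompIso_isMonHom _ _ _
  haveI : IsIso P := inferInstanceAs (IsIso ((Over.pullback (baseHom A S')).map w.hom))
  let I₀ : sp S' (S' ⊗[A] C) ⟶ Red.bc (baseHom A S' ≫ i) H := (asIso (bcHom A S' C)).inv ≫ P ≫ b.hom
  haveI : IsMonHom I₀ := inferInstanceAs (IsMonHom ((asIso (bcHom A S' C)).inv ≫ P ≫ b.hom))
  haveI : IsIso I₀ := inferInstanceAs (IsIso ((asIso (bcHom A S' C)).inv ≫ P ≫ b.hom))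
  exact ⟨I₀, inferInstance, inferInstance, inferInstanceAs (IsIso ((Over.forget _).map I₀))⟩

end Groth.Agent.MultNhd
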