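import Groth.Agent.MultNhdLib.Model

/-!
# A clopen subgroup of multiplicative type over a henselian Noetherian local ring
-/

set_option autoImplicit false
set_option linter.style.haveILetI false
set_option synthInstance.maxHeartbeats 200000
set_option maxHeartbeats 800000

noncomputable section

universe u

open scoped TensorProduct
open Groth.Agent.TorusField Groth.Agent.DiagHopf

namespace Groth.Agent.MultNhd

theorem exists_isotrivial_quotient {R : Type u} [CommRing R] [IsNoetherianRing R] [HenselianLocalRing R]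
    {C : Type u} [CommRing C] [HopfAlgebra R C] (hft : Algebra.FiniteType R C)
    (hfl : ∀ (q : Ideal C) [q.IsPrime], Ideal.map (algebraMap R C) (IsLocalRing.maximalIdeal R) ≤ q →
      Module.Flat R (Localization.AtPrime q))
    (hs : SGA3b.IsMultType (IsLocalRing.ResidueField R) (IsLocalRing.ResidueField R ⊗[R] C)) :
    ∃ (F : Type u) (_ : CommRing F) (_ : HopfAlgebra R F) (φ : C →ₐc[R] F),
      SGA3b.IsIsotrivial R F ∧ SGA3b.IsMultType R F ∧ Algebra.FiniteType R F ∧ Function.Surjective φ ∧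
        ∃ ε : C, IsIdempotentElem ε ∧ (∀ x, φ x = 0 ↔ x ∈ Ideal.span {ε}) ∧
          ε ∈ (IsLocalRing.maximalIdeal R).map (algebraMap R C) := by
  classical
  haveI := hft
  let m := IsLocalRing.maximalIdeal R
  letI : Field (R ⧸ m) := Ideal.Quotient.field m
  haveI : Algebra.FiniteType (R ⧸ m) ((R ⧸ m) ⊗[R] C) := Algebra.FiniteType.baseChange (A := C) (R ⧸ m)
  obtain ⟨k', _, _, hk'fin, hk'sep, N, _, -, ⟨eN⟩⟩ :=
    isotrivial_of_field (K := R ⧸ m) (inferInstance : Algebra.FiniteType (R ⧸ m) ((R ⧸ m) ⊗[R] C)) hs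
  haveI := hk'fin; haveI := hk'sep
  have hiso : SGA3b.IsIsotrivial (R ⧸ m) ((R ⧸ m) ⊗[R] C) := by
    haveI : Algebra.Etale (R ⧸ m) k' := by
      haveI : Algebra.FormallyEtale (R ⧸ m) k' := Algebra.FormallyEtale.of_isSeparable (R ⧸ m) k'
      exact { finitePresentation := Algebra.FinitePresentation.of_finiteType.1 inferInstance }
    exact ⟨k', inferInstance, inferInstance, inferInstance, inferInstance, inferInstance, N, inferInstance, ⟨eN⟩⟩
  haveI : HenselianRing R m := inferInstance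
  obtain ⟨F, _, _, hF, ⟨e⟩⟩ := HopfDesc.isotrivial_lifts (R := R) (I := m) ((R ⧸ m) ⊗[R] C) hiso
  obtain ⟨hFft, hFmt⟩ := finiteType_of_isotrivial hF e
  -- the completion
  let R' := AdicCompletion m R
  haveI : IsNoetherianRing R' := AdicRingLib.isNoetherianRing_adicCompletion m
  haveI : IsAdicComplete (IsLocalRing.maximalIdeal R') R' := inferInstance
  haveI : Module.FaithfullyFlat R R' := Module.FaithfullyFlat.of_flat_of_isLocalHom
  let I := IsLocalRing.maximalIdeal R'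
  letI : Field (R' ⧸ I) := Ideal.Quotient.field I
  let δ₀ : IsLocalRing.ResidueField R →+* R' ⧸ I :=
    IsLocalRing.ResidueField.map (algebraMap R R')
  have hδb : Function.Bijective δ₀ :=
    AdicCompletion.residueField_map_bijective_of_fg m.fg_of_isNoetherianRing
  let δe : R ⧸ m ≃+* R' ⧸ I := RingEquiv.ofBijective δ₀ hδb
  have hδ : ∀ r, δe (Ideal.Quotient.mk m r) = Ideal.Quotient.mk I (algebraMap R R' r) := fun r => rfl
  letI : Algebra (R ⧸ m) (R' ⧸ I) := δe.toRingHom.toAlgebra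
  haveI : IsScalarTower R (R ⧸ m) (R' ⧸ I) := IsScalarTower.of_algebraMap_eq fun r => (hδ r).symm
  -- the closed fibre over the completion
  letI : Algebra (R' ⧸ I) k' := ((algebraMap (R ⧸ m) k').comp δe.symm.toRingHom).toAlgebra
  letI : Algebra R k' := ((algebraMap (R ⧸ m) k').comp (algebraMap R (R ⧸ m))).toAlgebra
  haveI : IsScalarTower R (R ⧸ m) k' := IsScalarTower.of_algebraMap_eq fun _ => rfl
  letI : Algebra R' k' := ((algebraMap (R' ⧸ I) k').comp (algebraMap R' (R' ⧸ I))).toAlgebra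
  haveI : IsScalarTower R' (R' ⧸ I) k' := IsScalarTower.of_algebraMap_eq fun _ => rfl
  haveI : IsScalarTower R R' k' := IsScalarTower.of_algebraMap_eq fun r => by
    show algebraMap (R ⧸ m) k' (Ideal.Quotient.mk m r) =
      algebraMap (R ⧸ m) k' (δe.symm (Ideal.Quotient.mk I (algebraMap R R' r)))
    rw [← hδ, RingEquiv.symm_apply_apply]
  obtain ⟨E₀⟩ := exists_split_of_bialgEquiv eN
  obtain ⟨E₁⟩ := exists_split_transfer E₀
  obtain ⟨E₂⟩ := exists_split_transfer' (R' := R') E₁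
  obtain ⟨E₃⟩ := exists_split_transfer' (R' := R' ⧸ I) E₂
  haveI : Module.FaithfullyFlat (R' ⧸ I) k' := inferInstance
  haveI hftC : Algebra.FiniteType R' (R' ⊗[R] C) := Algebra.FiniteType.baseChange (A := C) R'
  have hmt := isMultType_of_split E₃
  have h0 : SGA3b.IsQuasiIsotrivial (R' ⧸ I) ((R' ⧸ I) ⊗[R'] (R' ⊗[R] C)) :=
    HomLift.isQuasiIsotrivial_of_isIsotrivial
      (MultHens.isIsotrivial_of_field (Algebra.FiniteType.baseChange (A := R' ⊗[R] C) (R' ⧸ I)) hmt)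
  haveI : Algebra.FinitePresentation R C := Algebra.FinitePresentation.of_finiteType.1 hft
  obtain ⟨g, hg1, hgfl⟩ := S5299.exists_flat_away m hfl
  haveI := hgfl
  have hIm : m.map (algebraMap R R') = I := AdicCompletion.maximalIdeal_eq_map.symm
  have hfl' : ∀ (q : Ideal (R' ⊗[R] C)) [q.IsPrime], Ideal.map (algebraMap R' (R' ⊗[R] C)) I ≤ q →
      Module.Flat R' (Localization.AtPrime q) := fun q _ hq => S5299.flat_atPrime_of_away g R' q fun hgq => by
    have h1 : (1 : R') ⊗ₜ[R] (1 - g) ∈ q := by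
      have hle : m.map (algebraMap R C) ≤
          q.comap (Algebra.TensorProduct.includeRight : C →ₐ[R] R' ⊗[R] C) := Ideal.map_le_iff_le_comap.2 fun r hr => by
        show (Algebra.TensorProduct.includeRight : C →ₐ[R] R' ⊗[R] C) (algebraMap R C r) ∈ q
        rw [AlgHom.commutes, IsScalarTower.algebraMap_apply R R' (R' ⊗[R] C)]
        exact hq (Ideal.mem_map_of_mem _ (hIm ▸ Ideal.mem_map_of_mem _ hr))
      exact hle hg1
    have : (1 : R') ⊗ₜ[R] (1 : C) ∈ q := by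
      have := add_mem h1 hgq
      rwa [← TensorProduct.tmul_add, sub_add_cancel] at this
    exact Ideal.IsPrime.ne_top (inferInstance : q.IsPrime) (Ideal.eq_top_of_isUnit_mem _ this isUnit_one)
  -- the homomorphism over the completion
  obtain ⟨T, _, _, hTet, hTfin, hTff, M, _, ⟨eT⟩⟩ := id hF
  haveI := hTet; haveI := hTfin; haveI := hTff
  obtain ⟨ET⟩ := exists_split_of_bialgEquiv eT
  obtain ⟨ET', -⟩ := exists_split_push ET (Algebra.TensorProduct.includeRight : T →ₐ[R] R' ⊗[R] T)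
  obtain ⟨ET''⟩ := exists_split_transfer' (R' := R') ET'
  have hF' : SGA3b.IsIsotrivial R' (R' ⊗[R] F) :=
    ⟨R' ⊗[R] T, inferInstance, inferInstance, inferInstance, inferInstance, inferInstance, M, inferInstance,
      exists_bialgEquiv ET''⟩
  let e' : (R' ⧸ I) ⊗[R ⧸ m] ((R ⧸ m) ⊗[R] C) →ₐc[R' ⧸ I] (R' ⧸ I) ⊗[R ⧸ m] ((R ⧸ m) ⊗[R] F) :=
    Bialgebra.TensorProduct.map (BialgHom.id (R' ⧸ I) (R' ⧸ I)) (e.symm : _ →ₐc[R ⧸ m] _)
  let φ₀ : (R' ⧸ I) ⊗[R'] (R' ⊗[R] C) →ₐc[R' ⧸ I] (R' ⧸ I) ⊗[R'] (R' ⊗[R] F) :=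
    ((HomLift.cancelBC R R' (R' ⧸ I) F).symm.toBialgHom).comp
      ((HomLift.cancelBC R (R ⧸ m) (R' ⧸ I) F).toBialgHom.comp
        (e'.comp ((HomLift.cancelBC R (R ⧸ m) (R' ⧸ I) C).symm.toBialgHom.comp
          (HomLift.cancelBC R R' (R' ⧸ I) C).toBialgHom)))
  obtain ⟨φ', hφ'⟩ := HomLift.exists_bialgHom_of_isotrivial (I := I) hF' hfl' h0 φ₀
  -- descent to the henselian ring
  have hres : ∀ x : R', ∃ r : R, x - algebraMap R R' r ∈ I := fun x => by
    obtain ⟨r, hr⟩ := hδb.2 (IsLocalRing.residue _ x)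
    obtain ⟨r, rfl⟩ := IsLocalRing.residue_surjective r
    refine ⟨r, ?_⟩
    rw [← IsLocalRing.residue_eq_zero_iff, map_sub, sub_eq_zero]
    exact hr.symm
  obtain ⟨φ, hφ⟩ := (CplHom.baseChange_bijective hFft hFmt hft hs AdicCompletion.maximalIdeal_eq_map hres).2 φ'
  have hred : ∀ c, e.symm ((1 : R ⧸ m) ⊗ₜ[R] c) = (1 : R ⧸ m) ⊗ₜ[R] φ c := by
    intro c
    let j : R ⧸ m →ₐ[R] R' ⧸ I := IsScalarTower.toAlgHom R (R ⧸ m) (R' ⧸ I)
    let k : R' ⧸ I →ₐ[R] R ⧸ m :=
      { δe.symm.toRingHom with commutes' := fun r => δe.symm_apply_eq.2 (hδ r).symm }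
    have hkj : ∀ z : (R ⧸ m) ⊗[R] F, push k (push j z) = z := fun z => by
      induction z using TensorProduct.induction_on with
      | zero => simp
      | add a b ha hb => simp only [map_add, ha, hb]
      | tmul a b => simp only [push, Algebra.TensorProduct.map_tmul]; exact congrArg (· ⊗ₜ[R] b) (δe.symm_apply_apply a)
    have h1 := hφ' ((1 : R') ⊗ₜ[R] c)
    rw [hφ c] at h1
    have h2 := congrArg (HomLift.cancelBC R R' (R' ⧸ I) F) h1
    have hc : ∀ z : (R ⧸ m) ⊗[R] F, HomLift.cancelBC R (R ⧸ m) (R' ⧸ I) F ((1 : R' ⧸ I) ⊗ₜ[R ⧸ m] z) = push j z := fun z => by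
      induction z using TensorProduct.induction_on with
      | zero => simp
      | add a b ha hb => simp only [TensorProduct.tmul_add, map_add, ha, hb]
      | tmul a b => simp [HomLift.cancelBC, push, j, Algebra.smul_def]
    have e1 : HomLift.cancelBC R R' (R' ⧸ I) F (φ₀ ((1 : R' ⧸ I) ⊗ₜ[R'] ((1 : R') ⊗ₜ[R] c))) =
        push j (e.symm ((1 : R ⧸ m) ⊗ₜ[R] c)) := by
      rw [← hc]
      show HomLift.cancelBC R R' (R' ⧸ I) F ((HomLift.cancelBC R R' (R' ⧸ I) F).symm _) = _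
      rw [BialgEquiv.apply_symm_apply]
      refine congrArg (HomLift.cancelBC R (R ⧸ m) (R' ⧸ I) F) ?_
      show e' ((HomLift.cancelBC R (R ⧸ m) (R' ⧸ I) C).symm (HomLift.cancelBC R R' (R' ⧸ I) C _)) = _
      have : (HomLift.cancelBC R (R ⧸ m) (R' ⧸ I) C).symm (HomLift.cancelBC R R' (R' ⧸ I) C
          ((1 : R' ⧸ I) ⊗ₜ[R'] ((1 : R') ⊗ₜ[R] c))) = (1 : R' ⧸ I) ⊗ₜ[R ⧸ m] ((1 : R ⧸ m) ⊗ₜ[R] c) := by
        refine (HomLift.cancelBC R (R ⧸ m) (R' ⧸ I) C).toAlgEquiv.injective ?_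
        show HomLift.cancelBC R (R ⧸ m) (R' ⧸ I) C ((HomLift.cancelBC R (R ⧸ m) (R' ⧸ I) C).symm _) =
          HomLift.cancelBC R (R ⧸ m) (R' ⧸ I) C _
        rw [BialgEquiv.apply_symm_apply]
        simp [HomLift.cancelBC]
      rw [this]
      simp [e']
    have e2 : HomLift.cancelBC R R' (R' ⧸ I) F ((1 : R' ⧸ I) ⊗ₜ[R'] ((1 : R') ⊗ₜ[R] φ c)) =
        push j ((1 : R ⧸ m) ⊗ₜ[R] φ c) := by
      rw [← hc]
      simp [HomLift.cancelBC]
    rw [e1, e2] at h2
    simpa only [hkj] using congrArg (push k) h2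
  obtain ⟨hsurj, ε, h1, h2, h3⟩ :=
    exists_idempotent_of_hom (IsLocalRing.maximalIdeal_le_jacobson _) hF φ e hred
  exact ⟨F, inferInstance, inferInstance, φ, hF, hFmt, hFft, hsurj, ε, h1, h2, h3⟩

end Groth.Agent.MultNhd
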