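import Groth.Agent.MultNhdLib.Hens
import Groth.Agent.MultNhdLib.Stage
import Groth.Agent.MultNhdLib.Coord
import Groth.Agent.S5298
import Groth.Agent.S0511

/-!
# The model over the henselization of a Noetherian ring at a point
-/

set_option autoImplicit false
set_option linter.style.haveILetI false
set_option synthInstance.maxHeartbeats 200000
set_option maxHeartbeats 800000

noncomputable section

universe u

open scoped TensorProduct
open Groth.Agent.TorusField Groth.Agent.DiagHopf

namespace Groth.Agent.MultNhd

/-- Flat points have a flat basic open neighbourhood. -/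
theorem exists_flat_away_atPrime {R C : Type u} [CommRing R] [CommRing C] [Algebra R C]
    [Algebra.FinitePresentation R C] (q : Ideal C) [q.IsPrime] (h : Module.Flat R (Localization.AtPrime q)) :
    ∃ g ∉ q, Module.Flat R (Localization.Away g) := by
  have hmem : ∀ q : PrimeSpectrum C, q ∈ FlatLib.flatLocus R C C ↔ Module.Flat R (Localization.AtPrime q.asIdeal) := fun q =>
    let e : LocalizedModule q.asIdeal.primeCompl C ≃ₗ[C] Localization.AtPrime q.asIdeal :=
      IsLocalizedModule.iso q.asIdeal.primeCompl (Algebra.linearMap C (Localization.AtPrime q.asIdeal))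
    ⟨fun h => @Module.Flat.of_linearEquiv _ _ _ _ _ _ _ _ h (e.restrictScalars R).symm,
      fun h => @Module.Flat.of_linearEquiv _ _ _ _ _ _ _ _ h (e.restrictScalars R)⟩
  obtain ⟨_, ⟨g, rfl⟩, hgq, hgU⟩ := PrimeSpectrum.isTopologicalBasis_basic_opens.exists_subset_of_mem_open
    ((hmem ⟨q, inferInstance⟩).2 h) (FlatLib.isOpen_flatLocus_fp (R := R) (S := C) (M := C))
  refine ⟨g, hgq, ?_⟩
  refine Module.flat_of_isLocalized_maximal (R := R) (Localization.Away g) (Localization.Away g) _
    (fun P _ => Algebra.linearMap (Localization.Away g) (Localization.AtPrime P)) fun P hP => ?_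
  let q' := P.comap (algebraMap C (Localization.Away g))
  haveI : q'.IsPrime := Ideal.comap_isPrime _ P
  have hgq' : g ∉ q' := fun h => hP.ne_top (P.eq_top_of_isUnit_mem h (IsLocalization.Away.algebraMap_isUnit g))
  have h' : Module.Flat R (Localization.AtPrime q') := (hmem ⟨q', inferInstance⟩).1 (hgU hgq')
  haveI : IsLocalization.AtPrime (Localization.AtPrime P) q' :=
    IsLocalization.isLocalization_isLocalization_atPrime_isLocalization (Submonoid.powers g) (Localization.AtPrime P) P
  haveI := h'
  exact Module.Flat.of_linearEquiv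
    ((IsLocalization.algEquiv q'.primeCompl (Localization.AtPrime P) (Localization.AtPrime q')).restrictScalars R).toLinearEquiv

variable {R Rh : Type u} [CommRing R] [IsNoetherianRing R] [CommRing Rh] [IsLocalRing Rh] (p : Ideal R) [p.IsPrime]
  [Algebra (Localization.AtPrime p) Rh] [IsLocalHom (algebraMap (Localization.AtPrime p) Rh)]
  [Hensel.IsHenselization (Localization.AtPrime p) Rh] [Algebra R Rh] [IsScalarTower R (Localization.AtPrime p) Rh]

include p in
/-- The model over the henselization. -/
theorem exists_model_henselization {C : Type u} [CommRing C] [HopfAlgebra R C] [Algebra.FiniteType R C]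
    (hfl : ∀ (q : Ideal C) [q.IsPrime], q.comap (algebraMap R C) = p → Module.Flat R (Localization.AtPrime q))
    (hs : SGA3b.IsMultType p.ResidueField (p.ResidueField ⊗[R] C)) :
    ∃ (F : Type u) (_ : CommRing F) (_ : HopfAlgebra Rh F) (φ : Rh ⊗[R] C →ₐc[Rh] F),
      SGA3b.IsIsotrivial Rh F ∧ SGA3b.IsMultType Rh F ∧ Algebra.FiniteType Rh F ∧ Function.Surjective φ ∧
        ∃ ε : Rh ⊗[R] C, IsIdempotentElem ε ∧ (∀ x, φ x = 0 ↔ x ∈ Ideal.span {ε}) ∧
          ε ∈ (IsLocalRing.maximalIdeal Rh).map (algebraMap Rh (Rh ⊗[R] C)) := by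
  haveI : HenselianLocalRing Rh := Hensel.IsHenselization.henselian (R := Localization.AtPrime p)
  haveI : IsNoetherianRing Rh := (Groth.Agent.S0511.result (Localization.AtPrime p) Rh).1 inferInstance
  haveI : Algebra.FinitePresentation R C := Algebra.FinitePresentation.of_finiteType.1 inferInstance
  haveI : Algebra.FiniteType Rh (Rh ⊗[R] C) := Algebra.FiniteType.baseChange (A := C) Rh
  refine exists_isotrivial_quotient (R := Rh) (C := Rh ⊗[R] C) inferInstance (fun Q _ hQ => ?_) ?_
  · let q := Q.comap (Algebra.TensorProduct.includeRight : C →ₐ[R] Rh ⊗[R] C).toRingHom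
    haveI : q.IsPrime := Ideal.comap_isPrime _ Q
    have hqp : q.comap (algebraMap R C) = p := by
      rw [Ideal.comap_comap, show (Algebra.TensorProduct.includeRight : C →ₐ[R] Rh ⊗[R] C).toRingHom.comp
        (algebraMap R C) = algebraMap R (Rh ⊗[R] C) from
          RingHom.ext fun r => (Algebra.TensorProduct.includeRight : C →ₐ[R] Rh ⊗[R] C).commutes r,
        IsScalarTower.algebraMap_eq R Rh (Rh ⊗[R] C), ← Ideal.comap_comap]
      have hmax : Q.comap (algebraMap Rh (Rh ⊗[R] C)) = IsLocalRing.maximalIdeal Rh :=
        ((IsLocalRing.maximalIdeal.isMaximal Rh).eq_of_le (Ideal.IsPrime.ne_top inferInstance)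
          (Ideal.map_le_iff_le_comap.1 hQ)).symm
      rw [hmax]
      exact HenselBranchLib.comap_maximalIdeal_hens p Rh
    obtain ⟨g, hgq, hgfl⟩ := exists_flat_away_atPrime q (hfl q hqp)
    haveI := hgfl
    exact S5299.flat_atPrime_of_away g Rh Q hgq
  · let κ := IsLocalRing.ResidueField Rh
    let γ : p.ResidueField →+* κ := IsLocalRing.ResidueField.map (algebraMap (Localization.AtPrime p) Rh)
    letI : Algebra p.ResidueField κ := γ.toAlgebra
    haveI : IsScalarTower R p.ResidueField κ := IsScalarTower.of_algebraMap_eq fun r => by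
      show IsLocalRing.residue Rh (algebraMap R Rh r) =
        γ (IsLocalRing.residue (Localization.AtPrime p) (algebraMap R (Localization.AtPrime p) r))
      rw [IsScalarTower.algebraMap_apply R (Localization.AtPrime p) Rh]
      rfl
    have h1 := QIso.isMultType_baseChange hs κ
    have h2 := S5298.isMultType_bialgEquiv (HomLift.cancelBC R p.ResidueField κ C) h1
    exact S5298.isMultType_bialgEquiv (HomLift.cancelBC R Rh κ C).symm h2

end Groth.Agent.MultNhd
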