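import Groth.Agent.MultNhdLib.Geom
import Groth.Agent.HomCorrLib.TorsionPts
import Mathlib.CategoryTheory.Limits.Constructions.Over.Basic

/-!
# The fibre of the kernel of a power map
-/

set_option autoImplicit false
set_option backward.isDefEq.respectTransparency false
set_option backward.isDefEq.respectTransparency.types false
set_option linter.style.haveILetI false
set_option synthInstance.maxHeartbeats 200000
set_option maxHeartbeats 1600000

noncomputable section

universe u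

open CategoryTheory CategoryTheory.Limits MonoidalCategory CartesianMonoidalCategory AlgebraicGeometry CoactBr
open scoped MonObj TensorProduct

namespace Groth.Agent.MultNhd

open Groth.Agent.DiagRep (baseHom)

attribute [local instance] CoactBr.braidedAlgSpecOf

/-- The points killed by `n` of an affine group. -/
theorem exists_factor_torsion {R D : Type u} [CommRing R] [CommRing D] [HopfAlgebra R D] (n : ℕ) :
    (pt (Ideal.Quotient.mkₐ R (SGA3b.torsionIdeal R D n))) ^ n = 1 ∧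
      ∀ {X : Over (Spec (CommRingCat.of R))} (x : X ⟶ sp R D), x ^ n = 1 →
        ∃ y : X ⟶ sp R (D ⧸ SGA3b.torsionIdeal R D n), y ≫ pt (Ideal.Quotient.mkₐ R (SGA3b.torsionIdeal R D n)) = x := by
  let J := SGA3b.torsionIdeal R D n
  refine ⟨?_, fun {X} x hx => ?_⟩
  · rw [HomCorr.pt_pow, ← DiagRep.pt_one]
    congr 1
    refine AlgHom.ext fun a => ?_
    show Ideal.Quotient.mk J (SGA3b.powConv R D n a) = algebraMap R (D ⧸ J) (Coalgebra.counit a)
    have h0 : Ideal.Quotient.mk J (SGA3b.powConv R D n (a - algebraMap R D (Coalgebra.counit a))) = 0 := by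
      rw [Ideal.Quotient.eq_zero_iff_mem]
      exact Ideal.mem_map_of_mem _ (by simp [RingHom.mem_ker])
    rw [map_sub, map_sub, sub_eq_zero, AlgHom.commutes, Ideal.Quotient.mk_algebraMap] at h0
    exact h0
  obtain ⟨C, _, _, τ, hτ⟩ := HomCorr.exists_gamma X
  obtain ⟨g, hg⟩ := (hτ D).1 x
  have h2 : x ^ n = τ ≫ pt (g.comp (SGA3b.powConv R D n)) := by
    rw [← HomCorr.pt_pow, hg]
    have := HomCorr.tau_comp_pow τ (𝟙 (sp R D)) (pt g) n
    simpa only [Category.comp_id] using this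
  have h1 : (1 : X ⟶ sp R D) = τ ≫ pt ((Algebra.ofId R C).comp (Bialgebra.counitAlgHom R D)) := by
    rw [DiagRep.pt_one, MonObj.comp_one]
  have e := (hτ D).2 _ _ (h2.symm.trans (hx.trans h1))
  have hle : J ≤ RingHom.ker g.toRingHom := by
    refine Ideal.map_le_iff_le_comap.2 fun a ha => ?_
    show g (SGA3b.powConv R D n a) = 0
    rw [show g (SGA3b.powConv R D n a) = _ from DFunLike.congr_fun e a]
    show algebraMap R C (Bialgebra.counitAlgHom R D a) = 0
    rw [show Bialgebra.counitAlgHom R D a = 0 from ha, map_zero]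
  refine ⟨τ ≫ pt (Ideal.Quotient.liftₐ J g hle), ?_⟩
  rw [hg, Category.assoc, ← pt_comp]
  rfl

/-- The fibre of the kernel of the power map is the spectrum of the torsion quotient. -/
theorem exists_iso_kerPow {S : Scheme.{u}} (H : Over S) [GrpObj H] {R D : Type u} [CommRing R] [CommRing D]
    [HopfAlgebra R D] (g₀ : Spec (CommRingCat.of R) ⟶ S) (I : sp R D ⟶ Red.bc g₀ H) [IsMonHom I] [IsIso I] (n : ℕ) :
    ∃ e : Spec (CommRingCat.of (D ⧸ SGA3b.torsionIdeal R D n)) ⟶
        pullback (pullback.snd η[H].left (𝟙 H ^ n : H ⟶ H).left ≫ H.hom) g₀,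
      IsIso e ∧ e ≫ pullback.snd _ g₀ = baseHom R (D ⧸ SGA3b.torsionIdeal R D n) := by
  let F := Over.pullback g₀
  let p₂ : pullback η[H] (𝟙 H ^ n : H ⟶ H) ⟶ H := pullback.snd η[H] (𝟙 H ^ n : H ⟶ H)
  have sq := (IsPullback.of_hasPullback η[H] (𝟙 H ^ n : H ⟶ H)).map F
  let J := SGA3b.torsionIdeal R D n
  let q := pt (Ideal.Quotient.mkₐ R J)
  obtain ⟨hq, hfac⟩ := exists_factor_torsion (R := R) (D := D) n
  let y : sp R (D ⧸ J) ⟶ Red.bc g₀ H := q ≫ I
  have hy : y ^ n = 1 := by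
    show (q ≫ I) ^ n = 1
    rw [← MonObj.pow_comp, hq, MonObj.one_comp]
  have hpow : F.map (𝟙 H ^ n : H ⟶ H) = (𝟙 (Red.bc g₀ H) ^ n : Red.bc g₀ H ⟶ Red.bc g₀ H) := by
    have h := map_pow (Functor.homMonoidHom (X := H) (M := H) F) (𝟙 H) n
    simp only [Functor.homMonoidHom] at h
    exact h.trans (congrArg (· ^ n) (F.map_id H))
  have hone : toUnit (sp R (D ⧸ J)) ≫ Functor.LaxMonoidal.ε F ≫ F.map η[H] = 1 := by
    rw [Hom.one_def, Functor.obj.η_def]
  let e₁ : sp R (D ⧸ J) ⟶ F.obj (pullback η[H] (𝟙 H ^ n : H ⟶ H)) :=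
    sq.lift (toUnit _ ≫ Functor.LaxMonoidal.ε F) y (by
      rw [Category.assoc, hone, hpow, MonObj.comp_pow, Category.comp_id, hy])
  have he₁ : e₁ ≫ F.map p₂ = y := sq.lift_snd _ _ _
  have hx : (F.map p₂ : _ ⟶ Red.bc g₀ H) ^ n = 1 := by
    have h : p₂ ^ n = 1 := by
      rw [← Category.comp_id p₂, ← MonObj.comp_pow]
      show p₂ ≫ (𝟙 H ^ n : H ⟶ H) = _
      rw [← pullback.condition, Hom.one_def]
      congr 1
      exact toUnit_unique _ _
    have h2 := map_pow (Functor.homMonoidHom (M := H) F) p₂ n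
    simp only [Functor.homMonoidHom] at h2
    refine h2.symm.trans ?_
    show F.map (p₂ ^ n) = 1
    rw [h]
    exact (Functor.homMonoidHom (M := H) F).map_one'
  haveI : IsMonHom (asIso I).hom := inferInstanceAs (IsMonHom I)
  haveI : IsMonHom (inv I) := inferInstanceAs (IsMonHom (asIso I).inv)
  obtain ⟨e₂, he₂⟩ := hfac (F.map p₂ ≫ inv I) (by rw [← MonObj.pow_comp, hx, MonObj.one_comp])
  have he₂' : e₂ ≫ y = F.map p₂ := by
    show e₂ ≫ q ≫ I = _
    rw [← Category.assoc, he₂, Category.assoc, IsIso.inv_hom_id, Category.comp_id]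
  haveI : Mono η[H] := (IsSplitMono.mk' ⟨toUnit H, toUnit_unique _ _⟩ : IsSplitMono η[H]).mono
  haveI : Mono p₂ := inferInstanceAs (Mono (pullback.snd η[H] (𝟙 H ^ n : H ⟶ H)))
  haveI : Mono (F.map p₂) := inferInstance
  haveI : Mono q := by
    haveI : IsClosedImmersion q.left := IsClosedImmersion.spec_of_surjective _ Ideal.Quotient.mk_surjective
    exact (Over.forget _).mono_of_mono_map (inferInstanceAs (Mono q.left))
  haveI : Mono y := inferInstanceAs (Mono (q ≫ I))
  haveI : IsIso e₁ := ⟨e₂, by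
    rw [← cancel_mono y, Category.assoc, he₂', he₁, Category.id_comp], by
    rw [← cancel_mono (F.map p₂), Category.assoc, he₁, he₂', Category.id_comp]⟩
  haveI : IsIso e₁.left := inferInstanceAs (IsIso ((Over.forget _).map e₁))
  have sq₂ := (IsPullback.of_hasPullback η[H] (𝟙 H ^ n : H ⟶ H)).map (Over.forget S)
  let c := sq₂.isoPullback
  have hc : c.hom ≫ pullback.snd η[H].left (𝟙 H ^ n : H ⟶ H).left = p₂.left := sq₂.isoPullback_hom_snd
  have hc' : c.hom ≫ pullback.snd η[H].left (𝟙 H ^ n : H ⟶ H).left ≫ H.hom =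
      (pullback η[H] (𝟙 H ^ n : H ⟶ H)).hom := by
    rw [← Category.assoc, hc]
    exact Over.w p₂
  let m := pullback.map (pullback η[H] (𝟙 H ^ n : H ⟶ H)).hom g₀
    (pullback.snd η[H].left (𝟙 H ^ n : H ⟶ H).left ≫ H.hom) g₀ c.hom (𝟙 _) (𝟙 _)
    (by rw [Category.comp_id]; exact hc'.symm) (by simp)
  refine ⟨e₁.left ≫ m, inferInstance, ?_⟩
  rw [Category.assoc]
  show e₁.left ≫ pullback.lift _ _ _ ≫ pullback.snd _ _ = _
  rw [pullback.lift_snd, Category.comp_id]
  exact Over.w e₁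

/-- The degree of the fibre of the kernel of the power map. -/
theorem finrank_kerPow {S : Scheme.{u}} (H : Over S) [GrpObj H] {R D : Type u} [Field R] [CommRing D]
    [HopfAlgebra R D] (g₀ : Spec (CommRingCat.of R) ⟶ S) (I : sp R D ⟶ Red.bc g₀ H) [IsMonHom I] [IsIso I] (n : ℕ)
    [Module.Finite R (D ⧸ SGA3b.torsionIdeal R D n)] (x : PrimeSpectrum R) :
    (pullback.snd (pullback.snd η[H].left (𝟙 H ^ n : H ⟶ H).left ≫ H.hom) g₀).finrank x =
      Module.finrank R (D ⧸ SGA3b.torsionIdeal R D n) := by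
  obtain ⟨e, he, hsnd⟩ := exists_iso_kerPow H g₀ I n
  haveI := he
  haveI : IsFinite (baseHom R (D ⧸ SGA3b.torsionIdeal R D n)) :=
    (IsFinite.SpecMap_iff _).2 (RingHom.finite_algebraMap.2 inferInstance)
  haveI : Flat (baseHom R (D ⧸ SGA3b.torsionIdeal R D n)) := by
    rw [HasRingHomProperty.Spec_iff (P := @Flat)]
    exact RingHom.flat_algebraMap_iff.2 inferInstance
  have h : pullback.snd (pullback.snd η[H].left (𝟙 H ^ n : H ⟶ H).left ≫ H.hom) g₀ =
      inv e ≫ baseHom R (D ⧸ SGA3b.torsionIdeal R D n) := by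
    rw [← hsnd, IsIso.inv_hom_id_assoc]
  rw [h, Scheme.Hom.finrank_comp_left_of_isIso]
  show (Spec.map (CommRingCat.ofHom (algebraMap R (D ⧸ SGA3b.torsionIdeal R D n)))).finrank x = _
  rw [Scheme.Hom.finrank_SpecMap_algebraMap, Module.rankAtStalk_eq_finrank_of_free]
  rfl

end Groth.Agent.MultNhd
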