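import Groth.Agent.HomLiftLib.Connected
import Groth.Agent.HomLiftLib.Idem
import Groth.Agent.HomLiftLib.Cancel
import Groth.Agent.MultHensLib.Lift
import Groth.Agent.CplHomLib.Main
import Groth.Agent.AdicRingLib.Completion
import Groth.Agent.S5299

/-!
# The subgroup of multiplicative type over a henselian Noetherian local ring
-/

set_option autoImplicit false
set_option linter.style.haveILetI false

noncomputable section

universe u

open scoped TensorProduct
open Groth.Agent.TorusField Groth.Agent.DiagHopf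

namespace Groth.Agent.MultNhd

/-- A homomorphism to an isotrivial group lifting an isomorphism of the reductions is surjective with idempotent kernel. -/
theorem exists_idempotent_of_hom {A : Type u} [CommRing A] [IsNoetherianRing A] {I : Ideal A}
    (hI : I ≤ Ideal.jacobson ⊥) {C : Type u} [CommRing C] [HopfAlgebra A C] [Algebra.FiniteType A C]
    {F : Type u} [CommRing F] [HopfAlgebra A F] (hF : SGA3b.IsIsotrivial A F) (φ : C →ₐc[A] F)
    (e : (A ⧸ I) ⊗[A] F ≃ₐc[A ⧸ I] (A ⧸ I) ⊗[A] C)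
    (hφ : ∀ c, e.symm ((1 : A ⧸ I) ⊗ₜ[A] c) = (1 : A ⧸ I) ⊗ₜ[A] φ c) :
    Function.Surjective φ ∧
      ∃ ε : C, IsIdempotentElem ε ∧ (∀ x, φ x = 0 ↔ x ∈ Ideal.span {ε}) ∧ ε ∈ I.map (algebraMap A C) := by
  classical
  haveI : IsNoetherianRing C := Algebra.FiniteType.isNoetherianRing A C
  obtain ⟨T, _, _, -, hfin, hff, N, _, ⟨eN⟩⟩ := id hF
  haveI := hff; haveI := hfin
  obtain ⟨EF⟩ := exists_split_of_bialgEquiv eN
  haveI : Module.Flat A F := HomLift.flat_of_hasSplits (HomLift.hasSplits_of_isMultType (isMultType_of_split EF))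
  have hJ : I.map (algebraMap A T) ≤ Ideal.jacobson ⊥ := by
    haveI := Algebra.IsIntegral.of_finite A T
    exact HenselLib.map_le_jacobson_bot hI
  have hsurj : Function.Surjective φ := by
    refine HomLift.surjective_of_split EF φ hJ fun m => ?_
    let P := Algebra.TensorProduct.map (AlgHom.id T T) (φ : C →ₐ[A] F)
    let q := HopfDesc.red I T
    obtain ⟨E', hE'⟩ := exists_split_push EF q
    suffices ∃ x, push q (P x) = push q (EF.e m) by
      obtain ⟨x, hx⟩ := this
      refine ⟨x, ?_⟩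
      rw [← HopfDesc.red_eq_zero_iff (I := I), map_sub, map_one]
      show q (EF.e.repr (P x) m) - 1 = 0
      rw [← repr_push EF E' q hE', hx, ← hE', Module.Basis.repr_self, Finsupp.single_eq_same, sub_self]
    have key : ∀ y : T ⊗[A] F, ∃ x, push q (P x) = push q y := by
      intro y
      induction y using TensorProduct.induction_on with
      | zero => exact ⟨0, by simp⟩
      | add a b ha hb =>
        obtain ⟨a', ha'⟩ := ha
        obtain ⟨b', hb'⟩ := hb
        exact ⟨a' + b', by simp only [map_add, ha', hb']⟩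
      | tmul t f =>
        obtain ⟨w, hw⟩ := (e.symm.toAlgEquiv.surjective) ((1 : A ⧸ I) ⊗ₜ[A] f)
        obtain ⟨c, rfl⟩ : ∃ c : C, (1 : A ⧸ I) ⊗ₜ[A] c = w :=
          Algebra.TensorProduct.includeRight_surjective C Ideal.Quotient.mk_surjective w
        refine ⟨t ⊗ₜ c, ?_⟩
        have h1 : (1 : A ⧸ I) ⊗ₜ[A] φ c = (1 : A ⧸ I) ⊗ₜ[A] f := (hφ c).symm.trans hw
        have h2 := congrArg (fun z => (q t ⊗ₜ[A] (1 : F)) *
          push (Algebra.TensorProduct.includeLeft : A ⧸ I →ₐ[A] HopfDesc.B I T) z) h1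
        simpa [push, P, q, HopfDesc.red] using h2
    exact key _
  have hker : ∀ x, φ x = 0 → x ∈ I • (⊤ : Submodule A C) := fun x hx => by
    rw [← FlatLift.rd_eq_zero_iff]
    apply e.symm.toAlgEquiv.injective
    rw [map_zero]
    refine (hφ x).trans ?_
    rw [hx, TensorProduct.tmul_zero]
  obtain ⟨s, h1, h2⟩ := HomLift.exists_killer hI φ hsurj hker
  obtain ⟨ε, hε, hεker⟩ := HomLift.exists_idempotent_ker φ hsurj (IsNoetherian.noetherian _) h1 h2
  refine ⟨hsurj, ε, hε, hεker, ?_⟩
  have h := hker ε ((hεker ε).2 (Ideal.subset_span rfl))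
  rwa [Ideal.smul_top_eq_map, Submodule.restrictScalars_mem] at h

/-- An isotrivial group with finitely generated reduction is of finite type. -/
theorem finiteType_of_isotrivial {A : Type u} [CommRing A] {I : Ideal A} [Nontrivial (A ⧸ I)]
    {C : Type u} [CommRing C] [HopfAlgebra A C] [Algebra.FiniteType A C]
    {F : Type u} [CommRing F] [HopfAlgebra A F] (hF : SGA3b.IsIsotrivial A F)
    (e : (A ⧸ I) ⊗[A] F ≃ₐc[A ⧸ I] (A ⧸ I) ⊗[A] C) :
    Algebra.FiniteType A F ∧ SGA3b.IsMultType A F := by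
  classical
  obtain ⟨T, _, _, -, hfin, hff, N, _, ⟨eN⟩⟩ := id hF
  haveI := hff; haveI := hfin
  obtain ⟨EF⟩ := exists_split_of_bialgEquiv eN
  refine ⟨?_, isMultType_of_split EF⟩
  haveI : Algebra.FiniteType (A ⧸ I) ((A ⧸ I) ⊗[A] C) := Algebra.FiniteType.baseChange (A := C) (A ⧸ I)
  haveI : Algebra.FiniteType (A ⧸ I) ((A ⧸ I) ⊗[A] F) :=
    Algebra.FiniteType.equiv (inferInstance : Algebra.FiniteType (A ⧸ I) ((A ⧸ I) ⊗[A] C)) e.symm.toAlgEquiv
  letI : Algebra (A ⧸ I) (HopfDesc.B I T) := inferInstance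
  obtain ⟨E₁, -⟩ := exists_split_push EF (HopfDesc.red I T)
  obtain ⟨E₂⟩ := exists_split_transfer' (R' := A ⧸ I) E₁
  haveI : Nontrivial (HopfDesc.B I T) :=
    Module.FaithfullyFlat.rTensor_nontrivial A T (A ⧸ I)
  haveI hN : AddMonoid.FG (Additive N) := fg_of_split' E₂
  haveI : AddGroup.FG (Additive N) := AddGroup.fg_iff_addMonoid_fg.2 hN
  haveI : Group.FG N := GroupFG.iff_add_fg.2 inferInstance
  haveI : Monoid.FG N := Group.fg_iff_monoid_fg.1 inferInstance
  haveI : Algebra.FiniteType T (T ⊗[A] F) :=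
    Algebra.FiniteType.equiv (inferInstance : Algebra.FiniteType T (MonoidAlgebra T N)) eN.symm.toAlgEquiv
  exact Algebra.FiniteType.of_finiteType_tensorProduct_of_faithfullyFlat T

end Groth.Agent.MultNhd
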