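import Groth.Agent.ApproxLib.EtaleLift

/-!
# A rational point of a smooth algebra extends to an étale neighbourhood
-/

set_option autoImplicit false
set_option linter.style.haveILetI false
set_option synthInstance.maxHeartbeats 200000
set_option maxHeartbeats 800000

noncomputable section

universe u

open scoped TensorProduct

namespace Groth.Agent.MultNhd

/-- A point with values in the residue field of a smooth algebra extends to an étale neighbourhood with trivial
residue field extension. -/
theorem exists_etale_point {A B K : Type u} [CommRing A] [CommRing B] [Algebra A B] [Algebra.Smooth A B] [Field K]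
    [Algebra A K] (hK : ∀ x : K, ∃ a s : A, algebraMap A K s ≠ 0 ∧ x * algebraMap A K s = algebraMap A K a)
    (β : B →ₐ[A] K) :
    ∃ (A' : Type u) (_ : CommRing A') (_ : Algebra A A') (θ : A' →ₐ[A] K) (τ : B →ₐ[A] A'),
      Algebra.Etale A A' ∧ θ.comp τ = β := by
  classical
  obtain ⟨gens, hgens⟩ := ((Algebra.FiniteType.out : (⊤ : Subalgebra A B).FG))
  choose num den hden hnum using fun t : B => hK (β t)
  let s : A := ∏ t ∈ gens, den t
  have hs : IsUnit (algebraMap A K s) := isUnit_iff_ne_zero.2 (by
    rw [map_prod]; exact Finset.prod_ne_zero_iff.2 fun t _ => hden t)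
  let As := Localization.Away s
  letI : Algebra As K := (IsLocalization.Away.lift s hs).toAlgebra
  haveI : IsScalarTower A As K := IsScalarTower.of_algebraMap_eq fun x => (IsLocalization.Away.lift_eq s hs x).symm
  let π : As →ₐ[A] K := IsScalarTower.toAlgHom A As K
  have hmem : ∀ b : B, β b ∈ π.range := by
    intro b
    have hb : b ∈ Algebra.adjoin A (gens : Set B) := hgens ▸ Algebra.mem_top
    induction hb using Algebra.adjoin_induction with
    | mem y hy =>
      refine ⟨algebraMap A As (num y * ∏ t' ∈ gens.erase y, den t') * IsLocalization.Away.invSelf s,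
        hs.mul_left_injective ?_⟩
      show algebraMap As K _ * algebraMap A K s = _ * algebraMap A K s
      rw [IsScalarTower.algebraMap_apply A As K s, ← map_mul, mul_assoc, mul_comm (IsLocalization.Away.invSelf s),
        IsLocalization.Away.mul_invSelf, mul_one, ← IsScalarTower.algebraMap_apply, ← IsScalarTower.algebraMap_apply,
        map_mul, ← hnum y, mul_assoc, ← map_mul]
      exact congrArg (fun z => β y * algebraMap A K z) (Finset.mul_prod_erase gens den hy)
    | algebraMap r => rw [β.commutes]; exact π.range.algebraMap_mem r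
    | add a b _ _ ha hb => rw [map_add]; exact add_mem ha hb
    | mul a b _ _ ha hb => rw [map_mul]; exact mul_mem ha hb
  let J : Ideal As := RingHom.ker (Algebra.ofId As K)
  have hJ : J ^ 1 = RingHom.ker (Algebra.ofId As K).rangeRestrict := by
    rw [pow_one]; ext x; simp [J, RingHom.mem_ker, Subtype.ext_iff]
  let eJ : (As ⧸ J ^ 1) ≃ₐ[As] (Algebra.ofId As K).range :=
    (Ideal.quotientEquivAlgOfEq As hJ).trans
      (Ideal.quotientKerAlgEquivOfSurjective (AlgHom.rangeRestrict_surjective (Algebra.ofId As K)))
  let βs : As ⊗[A] B →ₐ[As] K := Algebra.TensorProduct.lift (Algebra.ofId As K) β fun _ _ => Commute.all _ _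
  have hβs : ∀ z, βs z ∈ (Algebra.ofId As K).range := by
    intro z
    induction z using TensorProduct.induction_on with
    | zero => rw [map_zero]; exact zero_mem _
    | add a b ha hb => rw [map_add]; exact add_mem ha hb
    | tmul a b =>
      rw [Algebra.TensorProduct.lift_tmul]
      obtain ⟨c, hc⟩ := hmem b
      exact mul_mem ⟨a, rfl⟩ ⟨c, hc⟩
  let σ : As ⊗[A] B →ₐ[As] As ⧸ J ^ 1 := eJ.symm.toAlgHom.comp (βs.codRestrict _ hβs)
  obtain ⟨A', _, _, hEt, hsurj, hinj, ρ, hρ⟩ := ApproxLib.exists_etale_lift (S := As ⊗[A] B) J (N := 1) one_pos σ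
  haveI := hEt
  have hker : ∀ c ∈ J, algebraMap As K c = 0 := fun c hc => hc
  choose lft hlft using hsurj
  have hwd : ∀ (x : A') (c : As), x - algebraMap As A' c ∈ J.map (algebraMap As A') →
      algebraMap As K (lft x) = algebraMap As K c := fun x c hc => by
    rw [← sub_eq_zero, ← map_sub]
    refine hker _ (hinj _ ?_)
    rw [map_sub, ← sub_sub_sub_cancel_left _ _ x]
    exact sub_mem hc (hlft x)
  let θ : A' →+* K :=
    { toFun := fun x => algebraMap As K (lft x)
      map_one' := (hwd 1 1 (by rw [map_one, sub_self]; exact zero_mem _)).trans (map_one _)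
      map_mul' := fun x y => (hwd (x * y) (lft x * lft y) (by
        rw [map_mul, show x * y - algebraMap As A' (lft x) * algebraMap As A' (lft y) =
          (x - algebraMap As A' (lft x)) * y + algebraMap As A' (lft x) * (y - algebraMap As A' (lft y)) by ring]
        exact add_mem (Ideal.mul_mem_right _ _ (hlft x)) (Ideal.mul_mem_left _ _ (hlft y)))).trans (map_mul _ _ _)
      map_zero' := (hwd 0 0 (by rw [map_zero, sub_self]; exact zero_mem _)).trans (map_zero _)
      map_add' := fun x y => (hwd (x + y) (lft x + lft y) (by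
        rw [map_add, add_sub_add_comm]
        exact add_mem (hlft x) (hlft y))).trans (map_add _ _ _) }
  letI : Algebra A A' := ((algebraMap As A').comp (algebraMap A As)).toAlgebra
  haveI : IsScalarTower A As A' := IsScalarTower.of_algebraMap_eq fun _ => rfl
  haveI : Algebra.Etale A As := Algebra.Etale.of_isLocalizationAway s
  let θA : A' →ₐ[A] K :=
    { θ with
      commutes' := fun r => by
        show algebraMap As K (lft (algebraMap A A' r)) = _
        rw [hwd _ (algebraMap A As r) (by
          rw [← IsScalarTower.algebraMap_apply, sub_self]; exact zero_mem _), ← IsScalarTower.algebraMap_apply] }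
  refine ⟨A', inferInstance, inferInstance, θA, (ρ.restrictScalars A).comp Algebra.TensorProduct.includeRight,
    Algebra.Etale.comp A As A', AlgHom.ext fun b => ?_⟩
  obtain ⟨c, hc⟩ := Ideal.Quotient.mk_surjective (σ ((1 : As) ⊗ₜ[A] b))
  show algebraMap As K (lft (ρ ((1 : As) ⊗ₜ[A] b))) = β b
  rw [hwd _ c (by have := hρ _ c hc; rwa [pow_one] at this)]
  have h1 := congrArg (fun z => (eJ z : K)) hc
  have h2 : (eJ (σ ((1 : As) ⊗ₜ[A] b)) : K) = β b := by
    show ((eJ (eJ.symm (βs.codRestrict _ hβs ((1 : As) ⊗ₜ[A] b))) : (Algebra.ofId As K).range) : K) = β b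
    rw [AlgEquiv.apply_symm_apply]
    show βs ((1 : As) ⊗ₜ[A] b) = β b
    rw [Algebra.TensorProduct.lift_tmul, map_one, one_mul]
  exact h1.trans h2

end Groth.Agent.MultNhd
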