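import Groth.Agent.MultNhdLib.Abstract
import Groth.Agent.MultNhdLib.SmoothPoint
import Groth.Agent.MultNhdLib.FamBC
import Groth.Agent.MultNhdLib.Geom
import Groth.Agent.TransLiftLib.Affine
import Groth.Agent.MultEqLib.Props
import Groth.Agent.S5246
import Groth.Agent.S6059
import Mathlib.AlgebraicGeometry.Morphisms.Smooth

/-!
# Lifting a subgroup of multiplicative type of a fibre
-/

set_option autoImplicit false
set_option backward.isDefEq.respectTransparency false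
set_option backward.isDefEq.respectTransparency.types false
set_option linter.style.haveILetI false
set_option synthInstance.maxHeartbeats 200000
set_option maxHeartbeats 1600000

noncomputable section

universe u

open CategoryTheory CategoryTheory.Limits MonoidalCategory CartesianMonoidalCategory AlgebraicGeometry CoactBr
open scoped MonObj TensorProduct

namespace Groth.Agent.MultNhd

open Groth.Agent.DiagRep (baseHom bcHom)
open RedRank (homOf)

attribute [local instance] CoactBr.braidedAlgSpecOf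

/-- An isomorphism of bialgebras gives an isomorphism of group schemes. -/
theorem exists_sp_iso {K C C' : Type u} [CommRing K] [CommRing C] [CommRing C'] [HopfAlgebra K C] [HopfAlgebra K C']
    (e : C ≃ₐc[K] C') : ∃ v : sp K C' ≅ sp K C, IsMonHom v.hom := by
  refine ⟨⟨pt (e : C →ₐ[K] C'), pt (e.symm : C' →ₐ[K] C), ?_, ?_⟩, ?_⟩
  · rw [← pt_comp, show (e : C →ₐ[K] C').comp (e.symm : C' →ₐ[K] C) = AlgHom.id K C' from
      AlgHom.ext fun x => e.toAlgEquiv.apply_symm_apply x, pt_id]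
  · rw [← pt_comp, show (e.symm : C' →ₐ[K] C).comp (e : C →ₐ[K] C') = AlgHom.id K C from
      AlgHom.ext fun x => e.toAlgEquiv.symm_apply_apply x, pt_id]
  · exact SekSuwa.isMonHom_specHom e.toBialgHom

/-- A group of multiplicative type and finite type over a residue field lifts to an étale neighbourhood. -/
theorem exists_group_lift {A K : Type u} [CommRing A] [Field K] [Algebra A K]
    (hK : ∀ x : K, ∃ a s : A, algebraMap A K s ≠ 0 ∧ x * algebraMap A K s = algebraMap A K a)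
    (H₀ : Over (Spec (CommRingCat.of K))) [GrpObj H₀] (hH₀ : SGA3x.IsMultTypeFT H₀) :
    ∃ (S₁ : Type u) (_ : CommRing S₁) (_ : Algebra A S₁) (_ : Algebra S₁ K) (_ : IsScalarTower A S₁ K)
      (H₁ : Over (Spec (CommRingCat.of S₁))) (_ : GrpObj H₁),
      Algebra.Etale A S₁ ∧ SGA3x.IsMultTypeFT H₁ ∧
        ∃ h : Red.bc (baseHom S₁ K) H₁ ≅ H₀, IsMonHom h.hom := by
  classical
  have hloc : TwC.Locally (Spec (CommRingCat.of K)) TwC.Topology.fpqc
      (fun S' f => ∃ (M : Type) (_ : AddCommGroup M), Nonempty (Grp.mk (Red.bc f H₀) ≅ Grp.mk (Red.DS S' M))) := by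
    obtain ⟨X, t, h1, h2, h3, h4⟩ := hH₀
    refine ⟨X, t, h1, h2, h3, fun z => ?_⟩
    obtain ⟨U, hU, M, iM, -, hM⟩ := h4 z
    exact ⟨U, hU, M, iM, hM⟩
  haveI : IsAffineHom H₀.hom := MultEq.isAffineHom_of_isMultTypeFT hH₀
  haveI : IsAffine H₀.left := isAffine_of_isAffineHom H₀.hom
  obtain ⟨F₀, _, _, w, hw, hw'⟩ := HomCorr.exists_hopf (R := K) H₀
  haveI := hw
  haveI := hw'
  haveI : Algebra.FiniteType K F₀ := by
    have h1 : LocallyOfFinitePresentation H₀.hom := MultEq.lfp_of_isMultTypeFT hH₀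
    haveI : IsIso w.hom.left := inferInstanceAs (IsIso ((Over.forget _).map w.hom))
    have h2 : LocallyOfFinitePresentation (sp K F₀).hom := by
      rw [← Over.w w.hom]
      infer_instance
    have h3 : LocallyOfFinitePresentation (Spec.map (CommRingCat.ofHom (algebraMap K F₀))) := h2
    rw [HasRingHomProperty.Spec_iff (P := @LocallyOfFinitePresentation)] at h3
    haveI : Algebra.FinitePresentation K F₀ := RingHom.finitePresentation_algebraMap.1 h3
    infer_instance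
  obtain ⟨S₁, _, _, _, _, F, _, _, hEt, ⟨eF⟩, U, _, _, hUet, hUfin, hUff, M₀, _, hM₀, ⟨E⟩⟩ :=
    exists_split_lift hK F₀ (HomCorr.isMultType_of_locally w.hom hloc)
  haveI := hEt; haveI := hUet; haveI := hUfin; haveI := hUff; haveI := hM₀
  obtain ⟨M, _, hM, ⟨eM⟩⟩ := HomCorr.exists_small M₀
  obtain ⟨E'⟩ := HomCorr.exists_reindex E eM
  obtain ⟨eDS⟩ := HomCorr.exists_iso_DS_of_split (H := sp S₁ F) (𝟙 _) E'
  haveI : IsFinite (baseHom S₁ U) := (IsFinite.SpecMap_iff _).2 (RingHom.finite_algebraMap.2 inferInstance)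
  haveI : Etale (baseHom S₁ U) := by
    rw [HasRingHomProperty.Spec_iff (P := @Etale)]
    exact RingHom.etale_algebraMap.2 inferInstance
  haveI : Surjective (baseHom S₁ U) := ⟨PrimeSpectrum.comap_surjective_of_faithfullyFlat⟩
  obtain ⟨hmt, -⟩ := isMultTypeFT_of_finiteEtale (G := sp S₁ F) (baseHom S₁ U) hM eDS
  obtain ⟨v, hv⟩ := exists_sp_iso eF.symm
  haveI := hv
  haveI : IsIso (bcHom S₁ K F) := inferInstance
  haveI : IsMonHom (asIso (bcHom S₁ K F)).hom := DiagRep.isMonHom_bcHom S₁ K F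
  refine ⟨S₁, inferInstance, inferInstance, inferInstance, inferInstance, sp S₁ F, inferInstance, hEt, hmt,
    asIso (bcHom S₁ K F) ≪≫ v ≪≫ w, ?_⟩
  show IsMonHom ((asIso (bcHom S₁ K F)).hom ≫ v.hom ≫ w.hom)
  infer_instance

/-- The residue field at a prime consists of fractions. -/
theorem residueField_frac {A : Type u} [CommRing A] (p : Ideal A) [p.IsPrime] (x : p.ResidueField) :
    ∃ a s : A, algebraMap A p.ResidueField s ≠ 0 ∧
      x * algebraMap A p.ResidueField s = algebraMap A p.ResidueField a := by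
  obtain ⟨a, s, hs, hx⟩ := IsFractionRing.div_surjective (A ⧸ p) x
  obtain ⟨a, rfl⟩ := Ideal.Quotient.mk_surjective a
  obtain ⟨s, rfl⟩ := Ideal.Quotient.mk_surjective s
  have hs' : algebraMap A p.ResidueField s ≠ 0 :=
    IsFractionRing.to_map_ne_zero_of_mem_nonZeroDivisors (R := A ⧸ p) hs
  refine ⟨a, s, hs', ?_⟩
  rw [← hx]
  exact div_mul_cancel₀ _ hs'

theorem mono_map_of_iso {S T : Scheme.{u}} {S' : Scheme.{u}} (σ : S' ⟶ S) (g : T ⟶ S') (τ : T ⟶ S) (h : g ≫ σ = τ)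
    {X Y : Over S} (u : X ⟶ Y) (hu : Mono ((Over.pullback σ).map u)) : Mono ((Over.pullback τ).map u) := by
  have h1 : (Over.pullback τ).map u =
      (ActBC.bcCompIso g σ X h).inv ≫ (Over.pullback g).map ((Over.pullback σ).map u) ≫
        (ActBC.bcCompIso g σ Y h).hom := by
    rw [ActBC.bcCompIso_hom_naturality, Iso.inv_hom_id_assoc]
  haveI : Mono ((Over.pullback g).map ((Over.pullback σ).map u)) := inferInstance
  rw [h1]
  infer_instance

/-- A monomorphism over a residue field from a group of multiplicative type to a smooth affine group extends to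
an étale neighbourhood. -/
theorem exists_mono_lift {S₁ K : Type u} [CommRing S₁] [Field K] [Algebra S₁ K]
    (hK : ∀ x : K, ∃ a s : S₁, algebraMap S₁ K s ≠ 0 ∧ x * algebraMap S₁ K s = algebraMap S₁ K a)
    (H₁ G₁ : Over (Spec (CommRingCat.of S₁))) [GrpObj H₁] [GrpObj G₁] (hH : SGA3x.IsMultTypeFT H₁)
    (hG : Smooth G₁.hom) (hGa : IsAffineHom G₁.hom)
    (ψ₀ : Red.bc (baseHom S₁ K) H₁ ⟶ Red.bc (baseHom S₁ K) G₁) [IsMonHom ψ₀] [Mono ψ₀] :
    ∃ (W : Scheme.{u}) (q : W ⟶ Spec (CommRingCat.of S₁)) (b : Over.mk (baseHom S₁ K) ⟶ Over.mk q)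
      (φ : H₁ ⊗ Over.mk q ⟶ G₁), Etale q ∧ IsMonHom (homOf φ) ∧ Mono (homOf φ) ∧
        ((H₁ ◁ b) ≫ φ).left = ψ₀.left ≫ pullback.fst G₁.hom (baseHom S₁ K) := by
  classical
  obtain ⟨X, υ, ⟨hυ, huniv⟩, hXs, -⟩ := Groth.Agent.S5246.result H₁ G₁ hH hG hGa
  haveI := hXs
  let T₀ : Over (Spec (CommRingCat.of S₁)) := Over.mk (baseHom S₁ K)
  obtain ⟨φ₀, hφ₀⟩ := RedRank.exists_homOf_eq (T := T₀) ψ₀
  haveI : IsMonHom (homOf φ₀) := hφ₀ ▸ ‹IsMonHom ψ₀›
  obtain ⟨a, ha, -⟩ := huniv T₀ φ₀ (RedRank.isHomFamily_of_isMonHom φ₀)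
  let aK : Spec (CommRingCat.of K) ⟶ X.left := a.left
  obtain ⟨V, hV, hVm, -⟩ := exists_isAffineOpen_mem_and_subset (X := X.left)
    (x := aK.base (IsLocalRing.closedPoint K)) (U := ⊤) trivial
  let B : Type u := Γ(X.left, V)
  let j : Spec (CommRingCat.of B) ⟶ X.left := hV.fromSpec
  haveI : IsOpenImmersion j := hV.isOpenImmersion_fromSpec
  have hr : Set.range aK.base ⊆ Set.range j.base := by
    rintro _ ⟨x, rfl⟩
    show _ ∈ Set.range hV.fromSpec
    rw [hV.range_fromSpec]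
    obtain rfl : x = IsLocalRing.closedPoint K := Subsingleton.elim _ _
    exact hVm
  obtain ⟨ρ, hρ⟩ := Spec.map_surjective (j ≫ X.hom)
  letI : Algebra S₁ B := ρ.hom.toAlgebra
  have hj : baseHom S₁ B = j ≫ X.hom := by
    show Spec.map (CommRingCat.ofHom ρ.hom) = _
    rw [CommRingCat.ofHom_hom, hρ]
  haveI : Algebra.Smooth S₁ B := by
    have h1 : Smooth (baseHom S₁ B) := by rw [hj]; infer_instance
    rw [HasRingHomProperty.Spec_iff (P := @Smooth)] at h1
    exact RingHom.smooth_algebraMap.1 h1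
  obtain ⟨β₀, hβ₀⟩ := Spec.map_surjective (IsOpenImmersion.lift j aK hr)
  have hβj : Spec.map β₀ ≫ j = aK := by rw [hβ₀, IsOpenImmersion.lift_fac]
  have hβc : CommRingCat.ofHom (algebraMap S₁ B) ≫ β₀ = CommRingCat.ofHom (algebraMap S₁ K) := by
    apply Spec.map_injective
    rw [Spec.map_comp]
    show Spec.map β₀ ≫ baseHom S₁ B = _
    rw [hj, ← Category.assoc, hβj]
    exact Over.w a
  let β : B →ₐ[S₁] K :=
    { β₀.hom with commutes' := fun r => DFunLike.congr_fun (congrArg CommRingCat.Hom.hom hβc) r }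
  obtain ⟨S₂, _, _, θ, τ, hEt, hθτ⟩ := exists_etale_point hK β
  haveI := hEt
  let q : Spec (CommRingCat.of S₂) ⟶ Spec (CommRingCat.of S₁) := baseHom S₁ S₂
  haveI : Etale q := by
    show Etale (baseHom S₁ S₂)
    rw [HasRingHomProperty.Spec_iff (P := @Etale)]
    exact RingHom.etale_algebraMap.2 inferInstance
  let T₂ : Over (Spec (CommRingCat.of S₁)) := Over.mk q
  let σ₂ : Spec (CommRingCat.of K) ⟶ Spec (CommRingCat.of S₂) := Spec.map (CommRingCat.ofHom θ.toRingHom)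
  have hσ₂ : σ₂ ≫ q = baseHom S₁ K := by
    show Spec.map _ ≫ Spec.map _ = Spec.map _
    rw [← Spec.map_comp, ← CommRingCat.ofHom_comp]
    exact congrArg (fun f => Spec.map (CommRingCat.ofHom f)) θ.comp_algebraMap
  let τX : T₂ ⟶ X := Over.homMk (Spec.map (CommRingCat.ofHom τ.toRingHom) ≫ j) (by
    show (Spec.map _ ≫ j) ≫ X.hom = baseHom S₁ S₂
    rw [Category.assoc, ← hj, ← Spec.map_comp, ← CommRingCat.ofHom_comp]
    exact congrArg (fun f => Spec.map (CommRingCat.ofHom f)) τ.comp_algebraMap)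
  let b₂ : T₀ ⟶ T₂ := Over.homMk σ₂ hσ₂
  have hba : b₂ ≫ τX = a := by
    ext1
    show Spec.map _ ≫ Spec.map _ ≫ j = aK
    rw [← Spec.map_comp_assoc, ← hβj]
    congr 2
    exact CommRingCat.hom_ext (congrArg AlgHom.toRingHom hθτ)
  let φ₂ : H₁ ⊗ T₂ ⟶ G₁ := (H₁ ◁ τX) ≫ υ
  have hφ₂ : AutFam.IsHomFamily H₁ G₁ φ₂ := isHomFamily_whisker hυ τX
  haveI : IsMonHom (homOf φ₂) := RedRank.isMonHom_homOf hφ₂
  have hb₂ : (H₁ ◁ b₂) ≫ φ₂ = φ₀ := by rw [← ha, ← hba, MonoidalCategory.whiskerLeft_comp, Category.assoc]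
  have hm₀ : Mono ((Over.pullback σ₂).map (homOf φ₂)) := by
    have h1 := map_homOf φ₂ b₂
    rw [hb₂, hφ₀, ← Iso.eq_comp_inv] at h1
    have h2 : (Over.pullback b₂.left).map (homOf φ₂) = _ := h1
    show Mono ((Over.pullback b₂.left).map (homOf φ₂))
    rw [h2]
    infer_instance
  let pt : ↥(Spec (CommRingCat.of S₂)) := σ₂.base (IsLocalRing.closedPoint K)
  let κ := (Spec (CommRingCat.of S₂)).residueField pt
  let d : κ ⟶ CommRingCat.of K :=
    (Spec (CommRingCat.of S₂)).descResidueField (Scheme.stalkClosedPointTo σ₂)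
  have hd : Spec.map d ≫ (Spec (CommRingCat.of S₂)).fromSpecResidueField pt = σ₂ :=
    Scheme.descResidueField_stalkClosedPointTo_fromSpecResidueField _ _ _
  obtain ⟨ψκ, hψκ⟩ := Spec.map_surjective ((Spec (CommRingCat.of S₂)).fromSpecResidueField pt)
  have hψd : ψκ ≫ d = CommRingCat.ofHom θ.toRingHom := by
    apply Spec.map_injective
    rw [Spec.map_comp, hψκ, hd]
  haveI : IsIso d := by
    refine (ConcreteCategory.isIso_iff_bijective d).2 ⟨d.hom.injective, fun x => ?_⟩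
    obtain ⟨r, s, hs, hx⟩ := hK x
    have h1 : ∀ c : S₁, d.hom (ψκ.hom (algebraMap S₁ S₂ c)) = algebraMap S₁ K c := fun c =>
      (DFunLike.congr_fun (congrArg CommRingCat.Hom.hom hψd) (algebraMap S₁ S₂ c)).trans (θ.commutes c)
    refine ⟨ψκ.hom (algebraMap S₁ S₂ r) / ψκ.hom (algebraMap S₁ S₂ s), ?_⟩
    show d.hom _ = x
    rw [map_div₀, h1, h1, div_eq_iff hs, hx]
  have hm : Mono ((Over.pullback ((Spec (CommRingCat.of S₂)).fromSpecResidueField pt)).map (homOf φ₂)) :=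
    mono_map_of_iso σ₂ (Spec.map (inv d)) _ (by
      rw [← hd, ← Spec.map_comp_assoc, IsIso.hom_inv_id, Spec.map_id, Category.id_comp]) _ hm₀
  haveI := hm
  haveI : IsAffineHom (Red.bc T₂.hom G₁).hom := MorphismProperty.pullback_snd _ _ hGa
  haveI : IsSeparated (Red.bc T₂.hom G₁).hom := IsSeparated.of_isAffineHom _
  haveI : Smooth (Red.bc T₂.hom G₁).hom := MorphismProperty.pullback_snd (P := @Smooth) _ _ hG
  obtain ⟨U, hU, hUm⟩ := Groth.Agent.S6059.result (Red.bc T₂.hom H₁) (Red.bc T₂.hom G₁)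
    (DescHom.isMultTypeFT_bc hH _) (Or.inr inferInstance) (homOf φ₂) pt (@Over.mono_left_of_mono _ _ _ _ _ _ hm)
  let W : Scheme.{u} := (U : (Spec (CommRingCat.of S₂)).Opens)
  let qU : W ⟶ Spec (CommRingCat.of S₁) := U.ι ≫ q
  haveI : Etale qU := inferInstanceAs (Etale (U.ι ≫ q))
  let bU : Over.mk qU ⟶ T₂ := Over.homMk U.ι rfl
  have hrU : Set.range σ₂.base ⊆ Set.range U.ι.base := by
    rintro _ ⟨x, rfl⟩
    rw [Scheme.Opens.range_ι]
    obtain rfl : x = IsLocalRing.closedPoint K := Subsingleton.elim _ _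
    exact hU
  let b : Over.mk (baseHom S₁ K) ⟶ Over.mk qU := Over.homMk (IsOpenImmersion.lift U.ι σ₂ hrU) (by
    show _ ≫ U.ι ≫ q = _
    rw [IsOpenImmersion.lift_fac_assoc, hσ₂]
    rfl)
  have hbb : b ≫ bU = b₂ := Over.OverMorphism.ext (IsOpenImmersion.lift_fac _ _ _)
  refine ⟨W, qU, b, (H₁ ◁ bU) ≫ φ₂, inferInstance, RedRank.isMonHom_homOf (isHomFamily_whisker hφ₂ bU), ?_, ?_⟩
  · have h1 : (ActBC.bcCompIso bU.left T₂.hom H₁ (Over.w bU)).inv ≫ (Over.pullback bU.left).map (homOf φ₂) ≫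
        (ActBC.bcCompIso bU.left T₂.hom G₁ (Over.w bU)).hom = homOf ((H₁ ◁ bU) ≫ φ₂) := by
      rw [map_homOf, Iso.inv_hom_id_assoc]
    haveI : Mono ((Over.pullback bU.left).map (homOf φ₂)) :=
      (Over.forget _).mono_of_mono_map (show Mono ((Over.pullback U.ι).map (homOf φ₂)).left from hUm)
    rw [← h1]
    infer_instance
  · rw [← Category.assoc, ← MonoidalCategory.whiskerLeft_comp, hbb, hb₂, ← homOf_left_fst φ₀, hφ₀]
    rfl

/-- The subgroup lifting, with the lifted group given. -/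
theorem exists_subgroup_lift {S : Scheme.{u}} (G : Over S) [GrpObj G] (hG : Smooth G.hom) (hGa : IsAffineHom G.hom)
    {S₁ K : Type u} [CommRing S₁] [Field K] [Algebra S₁ K]
    (hK : ∀ x : K, ∃ a s : S₁, algebraMap S₁ K s ≠ 0 ∧ x * algebraMap S₁ K s = algebraMap S₁ K a)
    (f₁ : Spec (CommRingCat.of S₁) ⟶ S) [Etale f₁] (H₁ : Over (Spec (CommRingCat.of S₁))) [GrpObj H₁]
    (hH₁ : SGA3x.IsMultTypeFT H₁) {g : Spec (CommRingCat.of K) ⟶ S} (hσ₁ : baseHom S₁ K ≫ f₁ = g)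
    (H₀ : Over (Spec (CommRingCat.of K))) [GrpObj H₀] (i₀ : H₀ ⟶ Red.bc g G) [IsMonHom i₀] [Mono i₀]
    (h : Red.bc (baseHom S₁ K) H₁ ≅ H₀) [IsMonHom h.hom] :
    ∃ (S' : Scheme.{u}) (e : S' ⟶ S) (σ : Spec (CommRingCat.of K) ⟶ S'), Etale e ∧ σ ≫ e = g ∧
      ∃ (H' : Over S') (_ : GrpObj H') (i' : H' ⟶ Red.bc e G) (_ : IsMonHom i') (_ : Mono i'),
        SGA3x.IsMultTypeFT H' ∧
        ∃ φ : H₀.left ≅ (Red.bc σ H').left, φ.hom ≫ (Red.bc σ H').hom = H₀.hom ∧
          φ.hom ≫ ((Over.pullback σ).map i').left ≫ pullback.fst (Red.bc e G).hom σ ≫ pullback.fst G.hom e =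
            i₀.left ≫ pullback.fst G.hom g := by
  haveI : IsMonHom (ActBC.bcCompIso (baseHom S₁ K) f₁ G hσ₁).hom := ActBC.bcCompIso_isMonHom _ _ _
  haveI : IsMonHom (ActBC.bcCompIso (baseHom S₁ K) f₁ G hσ₁).inv := inferInstance
  obtain ⟨W, q, b, φ, hq, hφm, hφi, hb⟩ := exists_mono_lift hK H₁ (Red.bc f₁ G) hH₁
    (MorphismProperty.pullback_snd (P := @Smooth) _ _ hG) (MorphismProperty.pullback_snd _ _ hGa)
    (h.hom ≫ i₀ ≫ (ActBC.bcCompIso (baseHom S₁ K) f₁ G hσ₁).inv)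
  haveI := hq
  haveI : IsMonHom (ActBC.bcCompIso q f₁ G rfl).hom := ActBC.bcCompIso_isMonHom _ _ _
  haveI : IsMonHom (M := Red.bc q H₁) (N := Red.bc q (Red.bc f₁ G)) (homOf φ) := hφm
  haveI : Mono (X := Red.bc q H₁) (Y := Red.bc q (Red.bc f₁ G)) (homOf φ) := hφi
  refine ⟨W, q ≫ f₁, b.left, inferInstance, ?_, Red.bc q H₁, inferInstance,
    homOf φ ≫ (ActBC.bcCompIso q f₁ G rfl).hom, inferInstance, inferInstance,
    DescHom.isMultTypeFT_bc hH₁ _, (Over.forget _).mapIso (h.symm ≪≫ (ActBC.bcCompIso b.left q H₁ (Over.w b)).symm),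
    ?_, ?_⟩
  · rw [← Category.assoc, show b.left ≫ q = baseHom S₁ K from Over.w b, hσ₁]
  · exact Over.w (h.symm ≪≫ (ActBC.bcCompIso b.left q H₁ (Over.w b)).symm).hom
  · exact lift_compat G f₁ H₁ q _ b φ hσ₁ i₀ h hb

end Groth.Agent.MultNhd
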